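import Cfsg.Agent.H433.Step

/-!
# Phan's theorem for `q = 4`, hence for all `q ≥ 4`
-/

set_option autoImplicit false

namespace Cfsg.Agent.H433

open Matrix Cfsg
open Cfsg.Agent.LieClassical.HermBasic
open Cfsg.Agent.Phan

variable {F : Type*} [Field F] {q : ℕ} [Fintype F]

/-- the norm of the product of two vectors -/
def nm {n : ℕ} (u v : Pt n F q) : F := hermForm n F q u.val v.val * hermForm n F q v.val u.val

omit [Fintype F] in
theorem nm_comm {n : ℕ} (u v : Pt n F q) : nm u v = nm v u := mul_comm _ _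

theorem nm_eq (hF : Fintype.card F = q ^ 2) {n : ℕ} (u v : Pt n F q) :
    nm u v = hermForm n F q u.val v.val * hermForm n F q u.val v.val ^ q := by
  rw [nm, herm_swap hF u.val v.val]

theorem nm_pow (hF : Fintype.card F = q ^ 2) {n : ℕ} (u v : Pt n F q) :
    nm u v ^ q = nm u v := by
  rw [nm_eq hF, norm_pow_q hF]

/-- an apex exists if three values in `F_q` are avoided by a norm -/
theorem apex_of (hF : Fintype.card F = q ^ 2) {n : ℕ} (v w u : Pt (n + 4) F q)
    (hvw : adj v w) (hvu : adj v u) (hwu : adj w u)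
    (h : ∃ γ : F, γ ≠ 0 ∧ γ * γ ^ q ≠ 1 ∧ γ * γ ^ q ≠ 1 - nm u v ∧ γ * γ ^ q ≠ 1 - nm u w) :
    Apex v w u := by
  obtain ⟨γ, hγ0, hγ⟩ := h
  obtain ⟨x, h1, h2, h3, h4, h5⟩ := exists_perp_two_P hF v w u hvw
    (fun t => t ≠ 1 ∧ t ≠ 1 - nm u v ∧ t ≠ 1 - nm u w)
    ⟨zero_ne_one, (sub_ne_zero.2 (Ne.symm (adj_symm hvu))).symm,
      (sub_ne_zero.2 (Ne.symm (adj_symm hwu))).symm⟩ ⟨γ, hγ0, hγ⟩
  rw [← nm_eq hF] at h3 h4 h5
  refine ⟨x, h1, h2, ?_, ?_, ?_⟩
  · apply adj_symm; exact h3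
  · intro h
    apply h4
    rw [nm_comm x u]
    have : nm u v + nm u x = 1 := h
    linear_combination this
  · intro h
    apply h5
    rw [nm_comm x u]
    have : nm u w + nm u x = 1 := h
    linear_combination this

theorem apex_of_card (hF : Fintype.card F = q ^ 2) (hq : 4 ≤ q) {n : ℕ} (v w u : Pt (n + 4) F q)
    (hvw : adj v w) (hvu : adj v u) (hwu : adj w u)
    (h : nm u v = nm u w ∨ nm u v = 0 ∨ nm u w = 0) : Apex v w u := by
  classical
  apply apex_of hF v w u hvw hvu hwu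
  obtain ⟨S, hS, h1, h2, h3⟩ : ∃ S : Finset F, S.card ≤ 2 ∧ 1 ∈ S ∧ 1 - nm u v ∈ S ∧
      1 - nm u w ∈ S := by
    rcases h with h | h | h
    · exact ⟨{1, 1 - nm u v}, Finset.card_le_two, by simp, by simp, by simp [h]⟩
    · exact ⟨{1, 1 - nm u w}, Finset.card_le_two, by simp, by simp [h], by simp⟩
    · exact ⟨{1, 1 - nm u v}, Finset.card_le_two, by simp, by simp, by simp [h]⟩
  obtain ⟨γ, hγ0, hγ⟩ := exists_norm_avoid hF S (by
    have : S.card * (q + 1) ≤ 2 * (q + 1) := Nat.mul_le_mul_right _ hS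
    nlinarith)
  exact ⟨γ, hγ0, fun e => hγ (e ▸ h1), fun e => hγ (e ▸ h2), fun e => hγ (e ▸ h3)⟩

theorem apex_four (hF : Fintype.card F = q ^ 2) (hq : q = 4) {n : ℕ} (v w u : Pt (n + 4) F q)
    (hvw : adj v w) (hvu : adj v u) (hwu : adj w u) :
    Apex v w u ∨ Apex v u w ∨ Apex w u v := by
  by_contra hcon
  push Not at hcon
  obtain ⟨c1, c2, c3⟩ := hcon
  have e1 : ¬ (nm u v = nm u w ∨ nm u v = 0 ∨ nm u w = 0) := fun h =>
    c1 (apex_of_card hF (by omega) v w u hvw hvu hwu h)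
  have e2 : ¬ (nm w v = nm w u ∨ nm w v = 0 ∨ nm w u = 0) := fun h =>
    c2 (apex_of_card hF (by omega) v u w hvu hvw (adj_symm hwu) h)
  have e3 : ¬ (nm v w = nm v u ∨ nm v w = 0 ∨ nm v u = 0) := fun h =>
    c3 (apex_of_card hF (by omega) w u v hwu (adj_symm hvw) (adj_symm hvu) h)
  rw [nm_comm u w, nm_comm u v] at e1
  rw [nm_comm w v] at e2
  push Not at e1 e2 e3
  have key : ∀ x : F, x ^ q = x → x ≠ 0 → x ≠ 1 → x * x + x + 1 = 0 := by
    intro x h h0 h1
    rw [hq] at h
    have : x * (x - 1) * (x * x + x + 1) = 0 := by linear_combination h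
    rcases mul_eq_zero.1 this with h2 | h2
    · rcases mul_eq_zero.1 h2 with h3 | h3
      · exact absurd h3 h0
      · exact absurd (sub_eq_zero.1 h3) h1
    · exact h2
  have k1 := key (nm v u) (nm_pow hF _ _) e1.2.1 hvu
  have k2 := key (nm w u) (nm_pow hF _ _) e1.2.2 hwu
  have k3 := key (nm v w) (nm_pow hF _ _) e3.2.1 hvw
  have d1 : (nm v u - nm w u) * (nm v u + nm w u + 1) = 0 := by linear_combination k1 - k2
  have d2 : (nm v u - nm v w) * (nm v u + nm v w + 1) = 0 := by linear_combination k1 - k3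
  rcases mul_eq_zero.1 d1 with h | h
  · exact e1.1 (sub_eq_zero.1 h)
  rcases mul_eq_zero.1 d2 with h' | h'
  · exact e3.1 (sub_eq_zero.1 h').symm
  · apply e2.1
    linear_combination h' - h

theorem apex_all (hF : Fintype.card F = q ^ 2) (hq : 4 ≤ q) {n : ℕ} (v w u : Pt (n + 4) F q)
    (hvw : adj v w) (hvu : adj v u) (hwu : adj w u) :
    Apex v w u ∨ Apex v u w ∨ Apex w u v := by
  by_cases h5 : 5 ≤ q
  · exact Or.inl (exists_apex hF h5 v w u hvw hvu hwu)
  · exact apex_four hF (by omega) v w u hvw hvu hwu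

/-- **Phan's theorem**, `q ≥ 4`. -/
theorem exists_hom_of_four_le (hF : Fintype.card F = q ^ 2) (hq : 4 ≤ q) (n : ℕ) {H : Type*}
    [Group H] {φ : ℕ → (SU 2 F q →* H)} {g : ℕ → (SU 3 F q →* H)} (h : System hF (n + 3) φ g) :
    ∃ Φ : SU (n + 3) F q →* H, ∀ (k : ℕ) (hk : k + 3 ≤ n + 3) (x : SU 3 F q),
      Φ (emb hF k hk x) = g k x := by
  induction n generalizing φ g with
  | zero =>
    refine ⟨g 0, ?_⟩
    intro k hk x
    obtain rfl : k = 0 := by omega
    rw [emb_self]
  | succ n ih =>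
    have h' : System hF (n + 3) (fun k => φ (k + 1)) (fun k => g (k + 1)) :=
      ⟨fun k hk a => h.left (k + 1) (by omega) a, fun k hk a => h.right (k + 1) (by omega) a,
        fun i j hij hj a b => h.comm (i + 1) (j + 1) (by omega) (by omega) a b⟩
    obtain ⟨α, hα⟩ := ih h'
    have hαφ : ∀ (j : ℕ) (hj : j + 2 ≤ n + 3) (x : SU 2 F q), α (emb hF j hj x) = φ (j + 1) x := by
      intro j hj x
      by_cases hj' : j + 3 ≤ n + 3
      · have e : emb hF j hj x = emb hF j hj' (emb hF 0 (by omega : 0 + 2 ≤ 3) x) := by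
          rw [emb_emb]
          exact emb_congr hF _ _ (by omega) x
        rw [e, hα, h.left (j + 1) (by omega)]
      · obtain ⟨i, rfl⟩ : ∃ i, j = i + 1 := ⟨j - 1, by omega⟩
        have e : emb hF (i + 1) hj x =
            emb hF i (by omega : i + 3 ≤ n + 3) (emb hF 1 (by omega : 1 + 2 ≤ 3) x) := by
          rw [emb_emb]
        rw [e, hα, h.right (i + 1) (by omega)]
    obtain ⟨Φ, hΦ1, hΦ2⟩ := exists_extension_of_apex hF (by omega) n
      (fun v w u h1 h2 h3 => apex_all hF hq v w u h1 h2 h3) α (g 0) (by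
      intro x
      rw [h.right 0 (by omega), hαφ 0 (by omega)]) (by
      intro c a
      have hc : c ∈ Subgroup.closure {y : SU (n + 2) F q | ∃ (j : ℕ) (h : j + 2 ≤ n + 2)
          (x : SU 2 F q), emb hF j h x = y} := by
        rw [closure_emb_eq_top hF (by omega) n]; trivial
      rw [h.left 0 (by omega)]
      have key : ∀ c ∈ Subgroup.closure {y : SU (n + 2) F q | ∃ (j : ℕ) (h : j + 2 ≤ n + 2)
          (x : SU 2 F q), emb hF j h x = y}, Commute (α (emb hF 1 (by omega) c)) (φ 0 a) := by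
        intro c hc
        induction hc using Subgroup.closure_induction with
        | mem y hy =>
          obtain ⟨j, hj, x, rfl⟩ := hy
          rw [emb_emb, hαφ (1 + j) (by omega)]
          exact (h.comm 0 (1 + j + 1) (by omega) (by omega) a x).symm
        | one => rw [map_one, map_one]; exact Commute.one_left _
        | mul x y _ _ hx hy => rw [map_mul, map_mul]; exact hx.mul_left hy
        | inv x _ hx => rw [map_inv, map_inv]; exact hx.inv_left
      exact key c hc)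
    refine ⟨Φ, ?_⟩
    intro k hk x
    by_cases hk0 : k = 0
    · subst hk0
      exact hΦ2 x
    · obtain ⟨i, rfl⟩ : ∃ i, k = i + 1 := ⟨k - 1, by omega⟩
      have e : emb hF (i + 1) hk x = emb hF 1 (by omega : 1 + (n + 3) ≤ n + 1 + 3)
          (emb hF i (by omega : i + 3 ≤ n + 3) x) := by
        rw [emb_emb]
        exact emb_congr hF _ _ (by omega) x
      rw [e, hΦ1, hα]

end Cfsg.Agent.H433
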