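import Cfsg.Agent.H241.NHTools
import Cfsg.Agent.H393.Iso.Mathieu
import Cfsg.Agent.SporadicStructure.TabPerm
import Cfsg.Agent.SporadicA.M24Trans

/-!
# Rows of the nilpotent Hall cluster: `M₁₂`, `M₂₂`, `M₂₃`, `M₂₄` (helper433 for helper241)
-/

set_option autoImplicit false
set_option maxRecDepth 100000

namespace Cfsg.Agent.H433.NHMat

open Subgroup Cfsg
open Cfsg.Agent.H630.NH Cfsg.Agent.H241.NH Cfsg.Agent.H393.Iso
open Cfsg.Agent.SporadicStructure.TabPerm Cfsg.Agent.SporadicA.GolayBase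
open scoped Pointwise

/-- a subgroup of index `n` of a simple group: the number of fixed points of an element of order `q` -/
theorem nc_of_idx {X : Type*} [Group X] [Finite X] [IsSimpleGroup X] {p q n : ℕ} (hp : p.Prime) (hq : q.Prime)
    (hpq : p ≠ q) (H : Subgroup X) (hn : H.index = n) (hn1 : n ≠ 1) (hpn : p ∣ n) (hqX : q ∣ Nat.card X)
    (h : ∀ f < n, f % q = n % q → ¬ p ∣ f) : NC p q X := by
  have hF : Fact q.Prime := ⟨hq⟩
  obtain ⟨x, hx⟩ := exists_prime_orderOf_dvd_card' q hqX
  have hcard : Nat.card (X ⧸ H) = n := hn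
  refine nc_of_fix_trans hp hpq (Ω := X ⧸ H) (by rwa [hcard]) (x := x) ⟨1, by rw [hx, pow_one]⟩ (h _ ?_ ?_)
  · rw [← hcard]
    have h1 : MulAction.fixedBy (X ⧸ H) x ≠ Set.univ := by
      intro h1
      have h2 : x ∈ H.normalCore := by
        rw [H.normalCore_eq_ker, MonoidHom.mem_ker]
        ext1 a
        exact (Set.eq_univ_iff_forall.1 h1) a
      rcases (inferInstance : H.normalCore.Normal).eq_bot_or_eq_top with h3 | h3
      · rw [h3, mem_bot] at h2
        rw [h2, orderOf_one] at hx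
        exact hq.one_lt.ne hx
      · have h4 : H = ⊤ := top_le_iff.1 (h3 ▸ H.normalCore_le)
        apply hn1
        rw [← hn, h4, index_top]
    rw [Nat.card_coe_set_eq, ← Set.ncard_univ]
    exact Set.ncard_lt_ncard (Set.ssubset_univ_iff.2 h1) (Set.toFinite _)
  · have h1 : IsPGroup q (zpowers x) := IsPGroup.of_card (n := 1) (by rw [Nat.card_zpowers, hx, pow_one])
    have h2 := h1.card_modEq_card_fixedPoints (X ⧸ H)
    rw [hcard] at h2
    have h3 : MulAction.fixedPoints (zpowers x) (X ⧸ H) = MulAction.fixedBy (X ⧸ H) x := by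
      ext a
      rw [MulAction.mem_fixedPoints, MulAction.mem_fixedBy]
      constructor
      · intro h; exact h ⟨x, mem_zpowers x⟩
      · rintro h ⟨_, k, rfl⟩
        exact (zpow_mem (show x ∈ MulAction.stabilizer X a from h) k)
    rw [h3] at h2
    exact h2.symm

/-! ### Elements of `M₂₄` -/

def FY : List ℕ := [0, 1, 20, 15, 22, 10, 4, 11, 7, 16, 8, 12, 13, 5, 9, 17, 6, 2, 14, 3, 21, 19, 18, 23]
def GY : List ℕ := [0, 1, 17, 19, 6, 13, 16, 8, 10, 14, 5, 7, 11, 12, 18, 3, 9, 15, 22, 21, 2, 20, 4, 23]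
def FU : List ℕ := [0, 1, 2, 20, 16, 10, 14, 5, 12, 6, 7, 8, 11, 13, 9, 19, 22, 15, 18, 17, 21, 3, 4, 23]
def GU : List ℕ := [0, 1, 2, 21, 22, 7, 9, 10, 11, 14, 5, 12, 8, 13, 6, 17, 4, 19, 18, 15, 3, 20, 16, 23]
def FS : List ℕ := [0, 2, 4, 6, 8, 10, 12, 14, 16, 18, 20, 22, 1, 3, 5, 7, 9, 11, 13, 15, 17, 19, 21, 23]
def GS : List ℕ := [0, 12, 1, 13, 2, 14, 3, 15, 4, 16, 5, 17, 6, 18, 7, 19, 8, 20, 9, 21, 10, 22, 11, 23]
def FD : List ℕ := [0, 18, 6, 3, 2, 21, 1, 5, 16, 12, 7, 19, 8, 9, 17, 15, 13, 11, 4, 22, 10, 20, 14, 23]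
def GD : List ℕ := [0, 6, 4, 3, 18, 7, 2, 10, 12, 13, 20, 17, 9, 16, 22, 15, 8, 14, 1, 11, 21, 5, 19, 23]

theorem chkY : chk FY GY = true := by decide +kernel
theorem chkU : chk FU GU = true := by decide +kernel
theorem chkS : chk FS GS = true := by decide +kernel
theorem chkD : chk FD GD = true := by decide +kernel

/-- order 7 -/
def y : Equiv.Perm GolayPt := tabPerm FY GY chkY
/-- order 3 -/
def u : Equiv.Perm GolayPt := tabPerm FU GU chkU
/-- order 11 -/
def s : Equiv.Perm GolayPt := tabPerm FS GS chkS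
/-- order 5 -/
def d : Equiv.Perm GolayPt := tabPerm FD GD chkD

theorem mem22 (F G : List ℕ) (h : chk F G = true) (hM : chkM F = true) (h0 : tabPerm F G h none = none)
    (h1 : tabPerm F G h (some 0) = some 0) : tabPerm F G h ∈ Spor.M22 :=
  ⟨⟨tabPerm_mem_M24 F G h hM, h0⟩, h1⟩

theorem y_mem : y ∈ Spor.M22 := mem22 _ _ _ (by decide +kernel) (by decide +kernel) (by decide +kernel)
theorem u_mem : u ∈ Spor.M22 := mem22 _ _ _ (by decide +kernel) (by decide +kernel) (by decide +kernel)
theorem s_mem : s ∈ Spor.M22 := mem22 _ _ _ (by decide +kernel) (by decide +kernel) (by decide +kernel)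
theorem d_mem : d ∈ Spor.M22 := mem22 _ _ _ (by decide +kernel) (by decide +kernel) (by decide +kernel)

theorem u3 : u ^ 3 = 1 := by
  have h : ∀ p, u (u (u p)) = p := by decide +kernel
  ext1 p; exact h p
theorem y7 : y ^ 7 = 1 := by
  have h : ∀ p, y (y (y (y (y (y (y p)))))) = p := by decide +kernel
  ext1 p
  simp only [pow_succ, pow_zero, one_mul, Equiv.Perm.mul_apply, Equiv.Perm.one_apply]
  exact h p
theorem d5 : d ^ 5 = 1 := by
  have h : ∀ p, d (d (d (d (d p)))) = p := by decide +kernel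
  ext1 p
  simp only [pow_succ, pow_zero, one_mul, Equiv.Perm.mul_apply, Equiv.Perm.one_apply]
  exact h p
theorem s11 : s ^ 11 = 1 := by
  have h : ∀ p, s (s (s (s (s (s (s (s (s (s (s p)))))))))) = p := by decide +kernel
  ext1 p
  simp only [pow_succ, pow_zero, one_mul, Equiv.Perm.mul_apply, Equiv.Perm.one_apply]
  exact h p

theorem uy : u * y * u⁻¹ = y ^ 2 := by
  rw [mul_inv_eq_iff_eq_mul]
  have h : ∀ p, u (y p) = y (y (u p)) := by decide +kernel
  ext1 p; exact h p

theorem ds : d * s * d⁻¹ = s ^ 3 := by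
  rw [mul_inv_eq_iff_eq_mul]
  have h : ∀ p, d (s p) = s (s (s (d p))) := by decide +kernel
  ext1 p; exact h p

theorem uy_ne : u * y ≠ y * u := by
  intro h
  have h1 : u (y (some 2)) = y (u (some 2)) := congrArg (fun g : Equiv.Perm GolayPt => g (some 2)) h
  exact absurd h1 (by decide +kernel)

theorem ds_ne : d * s ≠ s * d := by
  intro h
  have h1 : d (s (some 1)) = s (d (some 1)) := congrArg (fun g : Equiv.Perm GolayPt => g (some 1)) h
  exact absurd h1 (by decide +kernel)

theorem fr37 : Fr 3 7 Spor.M22 := by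
  refine fr_of_rel (by norm_num) (by norm_num) (u := ⟨u, u_mem⟩) (y := ⟨y, y_mem⟩) (m := 2) ?_ ?_ ?_ ?_
  · exact Subtype.ext u3
  · exact Subtype.ext y7
  · exact Subtype.ext uy
  · exact fun h => uy_ne (congrArg Subtype.val h)

theorem fr511 : Fr 5 11 Spor.M22 := by
  refine fr_of_rel (by norm_num) (by norm_num) (u := ⟨d, d_mem⟩) (y := ⟨s, s_mem⟩) (m := 3) ?_ ?_ ?_ ?_
  · exact Subtype.ext d5
  · exact Subtype.ext s11
  · exact Subtype.ext ds
  · exact fun h => ds_ne (congrArg Subtype.val h)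

theorem le_23 : Spor.M22 ≤ Spor.M23 := inf_le_left
theorem le_24 : Spor.M22 ≤ M24 := inf_le_left.trans inf_le_left

theorem nc_m24 : NC 3 5 M24 := by
  have htr : MulAction.IsPretransitive M24 GolayPt := by
    have h5 := Cfsg.Agent.SporadicA.M24Trans.five_transitive
    have : MulAction.IsMultiplyPretransitive M24 GolayPt 1 :=
      MulAction.isMultiplyPretransitive_of_le (n := 5) (by norm_num) (by
        rw [Nat.card_eq_fintype_card]; decide)
    exact MulAction.is_one_pretransitive_iff.1 this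
  have h5 : (⟨d, le_24 d_mem⟩ : M24) ^ 5 = 1 := Subtype.ext d5
  have hne : (⟨d, le_24 d_mem⟩ : M24) ≠ 1 := by
    intro h
    have h1 : d (some 1) = some 1 := by
      have := congrArg (fun g : M24 => (g : Equiv.Perm GolayPt) (some 1)) h
      exact this
    exact absurd h1 (by decide +kernel)
  have hF : Fact (Nat.Prime 5) := ⟨by norm_num⟩
  refine nc_of_fix_trans (by norm_num) (by norm_num) (Ω := GolayPt) ?_ (x := ⟨d, le_24 d_mem⟩)
    ⟨1, by rw [pow_one]; exact orderOf_eq_prime h5 hne⟩ ?_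
  · rw [Nat.card_eq_fintype_card]; decide
  · have h1 : Nat.card (MulAction.fixedBy GolayPt (⟨d, le_24 d_mem⟩ : M24)) = 4 := by
      have h2 : MulAction.fixedBy GolayPt (⟨d, le_24 d_mem⟩ : M24) = {p | d p = p} := rfl
      rw [h2, Nat.card_eq_fintype_card]
      decide +kernel
    rw [h1]
    norm_num

theorem row_m12 {G : Type*} [Group G] [Finite G] [IsSimpleGroup G] (h : Spor.IsoM12 G) : Row G := by
  have hN := NotCT.Orders.m12 h
  -- a subgroup of index 12
  have hidx : ∃ H : Subgroup G, H.index = 12 := by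
    obtain ⟨e⟩ := h
    have h11 : Nat.card (Spor.M11.subgroupOf Spor.M12) = 7920 := by
      rw [Nat.card_congr (Subgroup.subgroupOfEquivOfLe (show Spor.M11 ≤ Spor.M12 from inf_le_left)).toEquiv]
      exact NotCT.Orders.m11 ⟨MulEquiv.refl _⟩
    have h12 : Nat.card Spor.M12 = 95040 := NotCT.Orders.m12 ⟨MulEquiv.refl _⟩
    have h1 := (Spor.M11.subgroupOf Spor.M12).card_mul_index
    rw [h11, h12] at h1
    refine ⟨(Spor.M11.subgroupOf Spor.M12).comap e.toMonoidHom, ?_⟩
    rw [Subgroup.index_comap_of_surjective _ e.surjective]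
    omega
  obtain ⟨H, hH⟩ := hidx
  have h35 : NC 3 5 G := nc_of_idx (by norm_num) (by norm_num) (by norm_num) H hH (by norm_num) (by norm_num)
    (by rw [hN]; norm_num) (by decide)
  have h311 : NC 3 11 G := nc_of_idx (by norm_num) (by norm_num) (by norm_num) H hH (by norm_num) (by norm_num)
    (by rw [hN]; norm_num) (by decide)
  refine row_of (N := 95040) (k := 6) hN [3, 5, 11] [3] [11] 5 [] ?_ ?_ ?_ ?_ ?_ ?_ ?_ ?_
  · decide
  · decide
  · decide
  · exact ab_of_not_cube (by norm_num) (by rw [hN]; norm_num)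
  · intro p hp q hq hpq
    obtain rfl := List.mem_singleton.1 hp
    simp only [List.mem_cons, List.not_mem_nil, or_false] at hq
    rcases hq with rfl | rfl | rfl
    · exact absurd rfl hpq
    · exact h35
    · exact h311
  · intro r hr
    obtain rfl := List.mem_singleton.1 hr
    exact solv_of_na (by norm_num) (by rw [hN]; norm_num) (na_m12 h)
  · intro a ha; exact absurd ha (by simp)
  · decide

theorem row_m22 {G : Type*} [Group G] [Finite G] [IsSimpleGroup G] (h : Spor.IsoM22 G) : Row G := by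
  have hN := NotCT.Orders.m22 h
  have h37 : NC 3 7 G := by
    obtain ⟨e⟩ := h
    exact (fr37.congr e.symm).nc (by norm_num) (by norm_num)
  refine row_of (N := 443520) (k := 7) hN [3, 5, 7, 11] [] [11] 3 [(3, 7)] ?_ ?_ ?_ ?_ ?_ ?_ ?_ ?_
  · decide
  · decide
  · decide
  · exact ab_of_not_cube (by norm_num) (by rw [hN]; norm_num)
  · intro p hp; exact absurd hp (by simp)
  · intro r hr
    obtain rfl := List.mem_singleton.1 hr
    exact solv_of_na (by norm_num) (by rw [hN]; norm_num) (na_m22 h)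
  · intro a ha
    obtain rfl := List.mem_singleton.1 ha
    exact h37
  · decide

theorem row_m23 {G : Type*} [Group G] [Finite G] [IsSimpleGroup G] (h : Spor.IsoM23 G) : Row G := by
  have hN := NotCT.Orders.m23 h
  have h2 : NC 3 7 G ∧ NC 5 11 G := by
    obtain ⟨e⟩ := h
    exact ⟨((fr37.of_le le_23).congr e.symm).nc (by norm_num) (by norm_num),
      ((fr511.of_le le_23).congr e.symm).nc (by norm_num) (by norm_num)⟩
  obtain ⟨h37, h511⟩ := h2
  refine row_of (N := 10200960) (k := 7) hN [3, 5, 7, 11, 23] [] [23] 3 [(3, 7), (5, 11)] ?_ ?_ ?_ ?_ ?_ ?_ ?_ ?_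
  · decide
  · decide
  · decide
  · exact ab_of_not_cube (by norm_num) (by rw [hN]; norm_num)
  · intro p hp; exact absurd hp (by simp)
  · intro r hr
    obtain rfl := List.mem_singleton.1 hr
    exact solv_of_na (by norm_num) (by rw [hN]; norm_num) (na_m23 h)
  · intro a ha
    simp only [List.mem_cons, List.not_mem_nil, or_false] at ha
    rcases ha with rfl | rfl
    · exact h37
    · exact h511
  · decide

theorem row_m24 {G : Type*} [Group G] [Finite G] [IsSimpleGroup G] (h : Spor.IsoM24 G) : Row G := by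
  have hN := NotCT.Orders.m24 h
  have hidx : NC 3 7 G ∧ NC 5 11 G ∧ NC 3 5 G ∧ ∃ H : Subgroup G, H.index = 24 := by
    obtain ⟨e⟩ := h
    refine ⟨((fr37.of_le le_24).congr e.symm).nc (by norm_num) (by norm_num),
      ((fr511.of_le le_24).congr e.symm).nc (by norm_num) (by norm_num), nc_m24.congr e.symm, ?_⟩
    have h23 : Nat.card (Spor.M23.subgroupOf M24) = 10200960 := by
      rw [Nat.card_congr (Subgroup.subgroupOfEquivOfLe (show Spor.M23 ≤ M24 from inf_le_left)).toEquiv]
      exact NotCT.Orders.m23 ⟨MulEquiv.refl _⟩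
    have h24 : Nat.card M24 = 244823040 := NotCT.Orders.m24 ⟨MulEquiv.refl _⟩
    have h1 := (Spor.M23.subgroupOf M24).card_mul_index
    rw [h23, h24] at h1
    refine ⟨(Spor.M23.subgroupOf M24).comap e.toMonoidHom, ?_⟩
    rw [Subgroup.index_comap_of_surjective _ e.surjective]
    omega
  obtain ⟨h37, h511, h35, H, hH⟩ := hidx
  have h311 : NC 3 11 G := nc_of_idx (by norm_num) (by norm_num) (by norm_num) H hH (by norm_num) (by norm_num)
    (by rw [hN]; norm_num) (by decide)
  have h323 : NC 3 23 G := nc_of_idx (by norm_num) (by norm_num) (by norm_num) H hH (by norm_num) (by norm_num)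
    (by rw [hN]; norm_num) (by decide)
  refine row_of (N := 244823040) (k := 10) hN [3, 5, 7, 11, 23] [3] [23] 5 [(5, 11)] ?_ ?_ ?_ ?_ ?_ ?_ ?_ ?_
  · decide
  · decide
  · decide
  · exact ab_of_not_cube (by norm_num) (by rw [hN]; norm_num)
  · intro p hp q hq hpq
    obtain rfl := List.mem_singleton.1 hp
    simp only [List.mem_cons, List.not_mem_nil, or_false] at hq
    rcases hq with rfl | rfl | rfl | rfl | rfl
    · exact absurd rfl hpq
    · exact h35
    · exact h37
    · exact h311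
    · exact h323
  · intro r hr
    obtain rfl := List.mem_singleton.1 hr
    exact solv_of_na (by norm_num) (by rw [hN]; norm_num) (na_m24 h)
  · intro a ha
    obtain rfl := List.mem_singleton.1 ha
    exact h511
  · decide

end Cfsg.Agent.H433.NHMat
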