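import Cfsg.Agent.H241.NHTools
import Cfsg.Agent.H393.Iso.ON
import Cfsg.Agent.H545.PQ.ONan
import Cfsg.Agent.H474.ONC.End
import Cfsg.Agent.NotCT.Orders
import Cfsg.Agent.H573.Spor.ONThree

/-!
# Row of the nilpotent Hall cluster: `O'N` (helper433 for helper241)
-/

set_option autoImplicit false
set_option maxRecDepth 100000

namespace Cfsg.Agent.H433.NHOn

open Subgroup Cfsg
open Cfsg.Agent.H630.NH Cfsg.Agent.H241.NH Cfsg.Agent.H393.Iso
open Cfsg.Agent.SporadicB.J1.Mat Cfsg.Agent.SporadicB.J1.Data Cfsg.Agent.SporadicB.J1.Main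
open Cfsg.Spor (ON)
open Cfsg.Spor.ON (Gen)
open Cfsg.Agent.SporadicB.ONHom Cfsg.Agent.SporadicB.ON45Word

/-- a word of order 6 in `J₁` normalising `⟨X⟩` -/
def wd : List Nat := [1, 1, 0, 0, 1, 0, 1, 0, 0, 0, 0, 1, 0, 0, 1, 0, 1, 0, 1]

theorem fr_J1 : Fr 3 7 Spor.J1 := by
  have h : ev wd ^ 2 * ev [0] = ev [0] ^ 4 * ev wd ^ 2 :=
    (((rep_ev _).pow 2).mul (rep_ev _)).eq (((rep_ev _).pow 4).mul ((rep_ev _).pow 2)) (by decide +kernel)
  refine fr_of_rel (by norm_num) (by norm_num) (u := ev wd ^ 2) (y := ev [0]) (m := 4) ?_ ?_ ?_ ?_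
  · rw [← pow_mul]
    exact ((rep_ev _).pow 6).eq Rep.one (by decide +kernel)
  · exact ((rep_ev _).pow 7).eq Rep.one (by decide +kernel)
  · rw [h, mul_inv_cancel_right]
  · exact (((rep_ev _).pow 2).mul (rep_ev _)).ne ((rep_ev _).mul ((rep_ev _).pow 2)) (by decide +kernel)

theorem na_on_model [Finite ON] {r : ℕ} (hr : ¬ r ∣ 161280) : NA r ON := by
  refine NA.of_isConj (fun s => s = on .f) (fun t ht ht1 => ⟨_, rfl, ?_⟩) ?_
  · exact (Cfsg.Agent.KFacts.ON.OneClass.one_class ht ht1).symm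
  · rintro s rfl x hx hxs
    refine not_comm_of_card ?_ hx hxs
    rw [Cfsg.Agent.KFacts.ON.Cent.card_cent]
    exact hr

theorem na_on {G : Type*} [Group G] [Finite G] (h : Spor.IsoON G) {r : ℕ} (hr : ¬ r ∣ 161280) : NA r G :=
  h.elim fun e =>
    have := Finite.of_equiv G e.toEquiv
    (na_on_model hr).of_equiv e.symm

theorem nc_x7 {q : ℕ} (hq : q.Prime) (hq7 : 7 ≠ q) (hd : q ∣ 460815505920)
    (h : ¬ q ∣ Nat.card ↥(centralizer ({H474.ONC.x7} : Set ON))) : NC 7 q ON := by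
  have := H545.PQ.ONan.finite
  refine nc_of_card (a := 1) hq hq7 (x := H474.ONC.x7) ⟨1, by rw [H474.ONC.order_x7, pow_one]⟩ ?_ ?_
  · rw [pow_one, H545.PQ.ONan.card]; exact hd
  · rwa [pow_one]

theorem nc_7_3 : NC 7 3 ON := by
  have := H545.PQ.ONan.finite
  obtain ⟨ι, hι⟩ := H474.ONC.exists_emb
  exact ((fr_J1.map ι hι).nc (by norm_num) (by norm_num)).symm

theorem row_on {G : Type*} [Group G] [Finite G] [IsSimpleGroup G] (h : Spor.IsoON G) : Row G := by
  have hN := NotCT.Orders.on h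
  have hNC : ∀ q ∈ ([3, 5, 7, 11, 19, 31] : List ℕ), 7 ≠ q → NC 7 q G := by
    obtain ⟨e⟩ := h
    intro q hq h7
    refine NC.congr e.symm ?_
    simp only [List.mem_cons, List.not_mem_nil, or_false] at hq
    rcases hq with rfl | rfl | rfl | rfl | rfl | rfl
    · exact nc_7_3
    · exact nc_x7 (by norm_num) (by norm_num) (by norm_num) H474.ONC.n7_5
    · exact absurd rfl h7
    · exact nc_x7 (by norm_num) (by norm_num) (by norm_num) H474.ONC.n7_11
    · exact nc_x7 (by norm_num) (by norm_num) (by norm_num) H474.ONC.n7_19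
    · exact nc_x7 (by norm_num) (by norm_num) (by norm_num) H474.ONC.n7_31
  have hAb : Ab 3 G := fun P => H573.Spor.on_3 h P
  refine row_of (N := 460815505920) (k := 9) hN [3, 5, 7, 11, 19, 31] [7] [11, 19, 31] 3 [] ?_ ?_ ?_ ?_ ?_ ?_ ?_ ?_
  · decide
  · decide
  · decide
  · exact hAb
  · intro p hp q hq hpq
    obtain rfl := List.mem_singleton.1 hp
    exact hNC q hq hpq
  · intro r hr
    simp only [List.mem_cons, List.not_mem_nil, or_false] at hr
    rcases hr with rfl | rfl | rfl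
    · exact solv_of_na (by norm_num) (by rw [hN]; norm_num) (na_on h (by norm_num))
    · exact solv_of_na (by norm_num) (by rw [hN]; norm_num) (na_on h (by norm_num))
    · exact solv_of_na (by norm_num) (by rw [hN]; norm_num) (na_on h (by norm_num))
  · intro a ha; exact absurd ha (by simp)
  · decide

end Cfsg.Agent.H433.NHOn
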