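import Cfsg.Agent.Phan.Cover

/-!
# Extending homomorphisms: a version with connected links

As `Phan.Cover.Ctx.Hyp.exists_hom`, with the common neighbour of four points replaced by: the common
neighbourhood of `p` and a non-neighbour `w` is connected.
-/

set_option autoImplicit false

namespace Cfsg.Agent.H433

open Cfsg.Agent.Phan.Cover
open Cfsg.Agent.Phan.Cover.Ctx

variable {M H Ω K A : Type*} [Group M] [Group H] [Group K] [Group A] [MulAction M Ω]
variable {C : Ctx M H Ω K A}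

/-- One step inside the common neighbourhood of `p` and `w`. -/
def Step (adj : Ω → Ω → Prop) (p w : Ω) (u v : Ω) : Prop :=
  adj p u ∧ adj w u ∧ adj p v ∧ adj w v ∧ adj u v

/-- **Extension of homomorphisms.** -/
theorem exists_hom_of_conn (h : C.Hyp)
    (htri : ∀ u v w : Ω, C.adj u v → C.adj u w → C.adj v w → C.Tri u v w)
    (hcommon : ∀ u v : Ω, ∃ y, C.adj u y ∧ C.adj v y)
    (hcommon3 : ∀ u v w : Ω, C.adj v w → ∃ y, C.adj u y ∧ C.adj v y ∧ C.adj w y)
    (hconn : ∀ w u v : Ω, ¬ C.adj C.p w → C.adj C.p u → C.adj w u → C.adj C.p v → C.adj w v →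
      Relation.ReflTransGen (Step C.adj C.p w) u v) :
    ∃ Φ : M →* H, (∀ k, Φ (C.ι k) = C.α k) ∧
      ∀ a, C.adj C.p (C.κ a • C.p) → Φ (C.κ a) = C.φ a := by
  classical
  have hp : C.p = (1 : M × H).1 • C.p := by rw [Prod.fst_one, one_smul]
  -- direct lifts of neighbours of `p`
  have hdir : ∀ u, ∃ x : M × H, C.adj C.p u → x.1 • C.p = u ∧ C.E x := by
    intro u
    by_cases hu : C.adj C.p u
    · obtain ⟨y, h1, h2⟩ := h.exists_lift (1 : M × H) (v := u) (by rw [← hp]; exact hu)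
      rw [inv_one, one_mul] at h2
      exact ⟨y, fun _ => ⟨h1, h2⟩⟩
    · exact ⟨1, fun h' => absurd h' hu⟩
  choose d hd using hdir
  -- two adjacent neighbours of `p`
  have hdd : ∀ u v, C.adj C.p u → C.adj C.p v → C.adj u v → C.E ((d u)⁻¹ * d v) := by
    intro u v hu hv huv
    obtain ⟨a1, a2⟩ := hd u hu
    obtain ⟨b1, b2⟩ := hd v hv
    refine h.close (x := 1) ?_ (by rwa [inv_one, one_mul]) (by rwa [inv_one, one_mul])
    rw [← hp, a1, b1]
    exact htri _ _ _ hu hv huv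
  -- the lift of `w` along a common neighbour of `p` and `w` is independent of the neighbour
  have hs : ∀ w, ∃ x : M × H, x.1 • C.p = w ∧
      ∀ u, C.adj C.p u → C.adj u w → C.E ((d u)⁻¹ * x) := by
    intro w
    by_cases hpw : C.adj C.p w
    · exact ⟨d w, (hd w hpw).1, fun u hu huw => hdd u w hu hpw huw⟩
    obtain ⟨u₀, h1, h2⟩ := hcommon C.p w
    obtain ⟨x, hx1, hx2⟩ := h.exists_lift (d u₀) (v := w) (by rw [(hd u₀ h1).1]; exact h.symm h2)
    refine ⟨x, hx1, ?_⟩
    intro u hu huw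
    have hch := hconn w u₀ u hpw h1 h2 hu (h.symm huw)
    clear huw hu
    induction hch with
    | refl => exact hx2
    | @tail a b hab hstep ih =>
      obtain ⟨s1, s2, s3, s4, s5⟩ := hstep
      refine h.close (x := d a) ?_ (hdd _ _ s1 s3 s5) ih
      rw [(hd a s1).1, (hd b s3).1, hx1]
      exact htri _ _ _ s5 (h.symm s2) (h.symm s4)
  choose s hs1 hs2 using hs
  -- the section preserves adjacency
  have hadj : ∀ w w', C.adj w w' → C.E ((s w)⁻¹ * s w') := by
    intro w w' hww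
    obtain ⟨u, h1, h2, h3⟩ := hcommon3 C.p w w' hww
    refine h.close (x := d u) ?_ (hs2 w u h1 (h.symm h2)) (hs2 w' u h1 (h.symm h3))
    rw [(hd u h1).1, hs1, hs1]
    exact htri _ _ _ (h.symm h2) (h.symm h3) hww
  -- the section at `p`
  obtain ⟨k₀, hk₀⟩ : ∃ k, s C.p = C.kh k := by
    obtain ⟨u, h1, -⟩ := hcommon C.p C.p
    have h2 := hs2 C.p u h1 (h.symm h1)
    have h3 : C.E ((d u)⁻¹ * 1) := by rw [mul_one]; exact h.E_inv (hd u h1).2
    obtain ⟨k, hk⟩ := h.lift_uniq h3 h2 (by rw [← hp, hs1])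
    exact ⟨k, by rw [hk, one_mul]⟩
  -- the group generated by the two graphs
  set D : Subgroup (M × H) := Subgroup.closure ({x | ∃ k, C.kh k = x} ∪
    {x | ∃ a, C.adj C.p (C.κ a • C.p) ∧ C.ah a = x}) with hD
  have hDk : ∀ k, C.kh k ∈ D := fun k => Subgroup.subset_closure (Or.inl ⟨k, rfl⟩)
  have hDa : ∀ a, C.adj C.p (C.κ a • C.p) → C.ah a ∈ D := fun a ha =>
    Subgroup.subset_closure (Or.inr ⟨a, ha, rfl⟩)
  have hstep : ∀ x y : M × H, (∃ k, x = s (x.1 • C.p) * C.kh k) → C.E y →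
      ∃ k, x * y = s ((x * y).1 • C.p) * C.kh k := by
    rintro x y ⟨k, hk⟩ hy
    have h1 : C.E ((s (x.1 • C.p))⁻¹ * (x * y)) := by
      have : (s (x.1 • C.p))⁻¹ * (x * y) = C.kh k * y := by
        nth_rw 2 [hk]
        group
      rw [this]
      exact E_left _ hy
    have h2 : C.adj (x.1 • C.p) ((x * y).1 • C.p) := by
      rw [Prod.fst_mul, mul_smul]
      exact h.inv _ (h.E_adj hy)
    have h3 := hadj _ _ h2
    exact h.lift_uniq h3 h1 (by rw [hs1])
  have hall : ∀ x ∈ D, ∃ k, x = s (x.1 • C.p) * C.kh k := by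
    intro x hx
    induction hx using Subgroup.closure_induction_right with
    | one =>
      refine ⟨k₀⁻¹, ?_⟩
      rw [← hp, hk₀, kh_inv, mul_inv_cancel]
    | mul_right x _ y hy ih =>
      rcases hy with ⟨k, rfl⟩ | ⟨a, ha, rfl⟩
      · obtain ⟨l, hl⟩ := ih
        refine ⟨l * k, ?_⟩
        rw [h.fst_smul, kh_mul, ← mul_assoc, ← hl]
      · exact hstep x _ ih (E_of ha)
    | mul_inv_cancel x _ y hy ih =>
      rcases hy with ⟨k, rfl⟩ | ⟨a, ha, rfl⟩
      · obtain ⟨l, hl⟩ := ih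
        refine ⟨l * k⁻¹, ?_⟩
        rw [← kh_inv, h.fst_smul, kh_mul, ← mul_assoc, ← hl]
      · exact hstep x _ ih (h.E_inv (E_of ha))
  -- `D` is a graph
  have hgraph : ∀ x ∈ D, x.1 = 1 → x.2 = 1 := by
    intro x hx hx1
    obtain ⟨k, hk⟩ := hall x hx
    rw [hx1, one_smul, hk₀, ← kh_mul] at hk
    have h1 : C.ι (k₀ * k) = 1 := by rw [← hx1, hk]; rfl
    have h2 : k₀ * k = 1 := h.inj (by rw [h1, map_one])
    rw [hk, h2, kh_one]
    rfl
  -- `D` projects onto `M`
  have htop := h.closure_eq_top hcommon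
  have hex : ∀ m : M, ∃ c : H, (m, c) ∈ D := by
    intro m
    have h1 : m ∈ D.map (MonoidHom.fst M H) := by
      have : (⊤ : Subgroup M) ≤ D.map (MonoidHom.fst M H) := by
        rw [← htop, Subgroup.closure_le]
        rintro x (⟨k, rfl⟩ | ⟨a, ha, rfl⟩)
        · exact ⟨C.kh k, hDk k, rfl⟩
        · exact ⟨C.ah a, hDa a ha, rfl⟩
      exact this trivial
    obtain ⟨⟨m', c⟩, hd, rfl⟩ := h1
    exact ⟨c, hd⟩
  choose f hf using hex
  have huniq : ∀ m c, (m, c) ∈ D → c = f m := by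
    intro m c hmc
    have := hgraph _ (D.mul_mem (D.inv_mem (hf m)) hmc) (by simp)
    simp only [Prod.snd_mul, Prod.snd_inv] at this
    rw [inv_mul_eq_one] at this
    exact this.symm
  refine ⟨MonoidHom.mk' f ?_, ?_, ?_⟩
  · intro a b
    exact (huniq (a * b) (f a * f b) (D.mul_mem (hf a) (hf b))).symm
  · intro k
    exact (huniq _ _ (hDk k)).symm
  · intro a ha
    exact (huniq _ _ (hDa a ha)).symm

end Cfsg.Agent.H433
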