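import Cfsg.Agent.Phan.Tri
import Cfsg.Agent.H433.CoverConn

/-!
# Connectivity of common neighbourhoods, apexes of triangles (`q ≥ 3`, `q = 4`)
-/

set_option autoImplicit false

namespace Cfsg.Agent.H433

open Matrix Cfsg
open Cfsg.Agent.LieClassical.HermBasic
open Cfsg.Agent.Phan

variable {F : Type*} [Field F] {q : ℕ} [Fintype F]

/-- a unit vector perpendicular to a vector of nonzero norm -/
theorem exists_unit_perp_of_ne (hF : Fintype.card F = q ^ 2) {n : ℕ} {r : Fin (n + 2) → F}
    (hr : hermForm (n + 2) F q r r ≠ 0) : ∃ x : Pt (n + 2) F q, hermForm (n + 2) F q x.val r = 0 := by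
  obtain ⟨μ, hμ0, hμ⟩ := exists_norm_eq_ne hF (herm_self_pow hF r) hr
  obtain ⟨g, hg⟩ := exists_su_map hF (n := n) (u := Pi.single 0 μ) (v := r) (by
    rw [herm_single_left, Pi.single_eq_same, hμ]) (by
    rw [herm_single_left, Pi.single_eq_same, hμ]; exact hr)
  refine ⟨⟨mat g *ᵥ (Pi.single 1 1), ?_⟩, ?_⟩
  · rw [mat_isom, herm_single_left, Pi.single_eq_same, one_pow, mul_one]
  · change hermForm (n + 2) F q (mat g *ᵥ (Pi.single 1 1)) r = 0
    rw [← hg, mat_isom, herm_single_left, Pi.single_eq_of_ne (by simp), zero_pow_q hF, mul_zero]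

/-- a unit vector whose product with `r` has a norm with property `P` -/
theorem exists_unit_P (hF : Fintype.card F = q ^ 2) {n : ℕ} (r : Fin (n + 2) → F) (P : F → Prop)
    (h0 : P 0) (h1 : ∃ γ : F, γ ≠ 0 ∧ P (γ * γ ^ q)) : ∃ x : Pt (n + 2) F q,
      P (hermForm (n + 2) F q x.val r * hermForm (n + 2) F q x.val r ^ q) := by
  by_cases hr0 : r = 0
  · refine ⟨e0 (n + 1) F q, ?_⟩
    rw [hr0, herm_zero_right hF, zero_mul]
    exact h0
  by_cases hr : hermForm (n + 2) F q r r = 0
  · obtain ⟨γ, hγ0, hγ⟩ := h1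
    obtain ⟨x, hx⟩ := exists_unit_of_isotropic hF hr hr0 hγ0
    exact ⟨x, by rw [hx]; exact hγ⟩
  · obtain ⟨x, hx⟩ := exists_unit_perp_of_ne hF hr
    exact ⟨x, by rw [hx, zero_mul]; exact h0⟩

/-- a unit vector perpendicular to any vector in dimension at least three -/
theorem exists_unit_perp (hF : Fintype.card F = q ^ 2) {n : ℕ} (t : Fin (n + 3) → F) :
    ∃ x : Pt (n + 3) F q, hermForm (n + 3) F q x.val t = 0 := by
  by_cases ht0 : t = 0
  · exact ⟨e0 (n + 2) F q, by rw [ht0, herm_zero_right hF]⟩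
  by_cases ht : hermForm (n + 3) F q t t = 0
  swap
  · exact exists_unit_perp_of_ne hF ht
  obtain ⟨y, hy⟩ := exists_unit_of_isotropic hF ht ht0 (one_ne_zero (α := F))
  obtain ⟨k, hk⟩ := exists_su_smul hF (e0 (n + 2) F q) y
  have hk' : mat k *ᵥ (e0 (n + 2) F q).val = y.val := congrArg Pt.val hk
  set t' := mat k⁻¹ *ᵥ t with ht'
  have htt : mat k *ᵥ t' = t := by
    rw [ht', Matrix.mulVec_mulVec, mat_mul_inv, Matrix.one_mulVec]
  have h0 : t' 0 = 1 := by
    have h1 := hy
    rw [← hk', ← htt, mat_isom, herm_e0_left] at h1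
    have h2 := congrArg (fun z => z ^ q) h1
    simpa [pow_q_pow_q hF] using h2
  have hn : hermForm (n + 3) F q t' t' = 0 := by
    rw [← mat_isom k, htt, ht]
  rw [Phan.cons_head_tail t', herm_cons, h0, one_pow, mul_one] at hn
  have hn' : hermForm (n + 2) F q (fun j => t' j.succ) (fun j => t' j.succ) ≠ 0 := by
    intro h
    rw [h, add_zero] at hn
    exact one_ne_zero hn
  obtain ⟨x, hx⟩ := exists_unit_perp_of_ne hF hn'
  refine ⟨⟨mat k *ᵥ (Fin.cons 0 x.val), ?_⟩, ?_⟩
  · rw [mat_isom, herm_cons, x.norm, zero_mul, zero_add]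
  · change hermForm (n + 3) F q (mat k *ᵥ (Fin.cons 0 x.val)) t = 0
    rw [← htt, mat_isom, Phan.cons_head_tail t', herm_cons, hx, zero_mul, zero_add]

/-- a unit vector perpendicular to two adjacent vectors -/
theorem exists_perp_two (hF : Fintype.card F = q ^ 2) {n : ℕ} (v w : Pt (n + 4) F q)
    (hvw : adj v w) (P : (Fin (n + 2) → F) → Pt (n + 2) F q → Prop)
    (hP : ∀ r, ∃ x, P r x) (u : Fin (n + 4) → F) :
    ∃ (x : Pt (n + 4) F q) (r : Fin (n + 2) → F) (x' : Pt (n + 2) F q),
      hermForm (n + 4) F q v.val x.val = 0 ∧ hermForm (n + 4) F q w.val x.val = 0 ∧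
      P r x' ∧ hermForm (n + 4) F q x.val u = hermForm (n + 2) F q x'.val r := by
  obtain ⟨g₁, hg₁⟩ := exists_su_smul hF (e0 (n + 3) F q) v
  have h1 : adj (e0 (n + 3) F q) (g₁⁻¹ • w) := by
    have := adj_smul g₁⁻¹ hvw
    rwa [← hg₁, inv_smul_smul] at this
  obtain ⟨k, a, hka⟩ := exists_of_adj hF (n := n + 1) _ h1
  set g := g₁ * emb hF 1 (by omega : 1 + (n + 3) ≤ n + 4) k with hg
  have hv : g • e0 (n + 3) F q = v := by rw [hg, mul_smul, emb_one_e0, hg₁]
  have hw : g • emb hF 0 (by omega : 0 + 2 ≤ n + 4) a • e0 (n + 3) F q = w := by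
    rw [hg, mul_smul, hka, smul_inv_smul]
  set u' := mat g⁻¹ *ᵥ u with hu'
  have huu : mat g *ᵥ u' = u := by
    rw [hu', Matrix.mulVec_mulVec, mat_mul_inv, Matrix.one_mulVec]
  set r : Fin (n + 2) → F := fun j => u' j.succ.succ with hr
  obtain ⟨x'', hx''⟩ := hP r
  have hx'n : hermForm (n + 4) F q (Fin.cons 0 (Fin.cons 0 x''.val))
      (Fin.cons 0 (Fin.cons 0 x''.val)) = 1 := by
    rw [herm_cons, herm_cons, x''.norm, zero_mul, zero_add, zero_add]
  set x' : Pt (n + 4) F q := ⟨Fin.cons 0 (Fin.cons 0 x''.val), hx'n⟩ with hx'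
  have hisom : ∀ y z : Pt (n + 4) F q, hermForm (n + 4) F q (g • y).val (g • z).val =
      hermForm (n + 4) F q y.val z.val := fun y z => mat_isom g _ _
  refine ⟨g • x', r, x'', ?_, ?_, hx'', ?_⟩
  · rw [← hv, hisom, hx', herm_e0_left]
    change ((Fin.cons 0 (Fin.cons 0 x''.val) : Fin (n + 4) → F) 0) ^ q = 0
    rw [Fin.cons_zero, zero_pow_q hF]
  · rw [← hw, hisom, emb_zero_e0 hF (n := n + 2), hx']
    change hermForm (n + 4) F q _ (Fin.cons 0 (Fin.cons 0 x''.val)) = 0
    rw [herm_cons, single_zero_eq_cons, herm_cons, zero_pow_q hF, mul_zero, mul_zero, zero_add,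
      zero_add, herm_zero_left]
  · rw [← huu, smul_val, mat_isom, hx']
    change hermForm (n + 4) F q (Fin.cons 0 (Fin.cons 0 x''.val)) u' = _
    have hdec : u' = Fin.cons (u' 0) (Fin.cons (u' 1) r) := by
      conv_lhs => rw [Phan.cons_head_tail u', Phan.cons_head_tail (fun j => u' (Fin.succ j))]
      rfl
    conv_lhs => rw [hdec]
    rw [herm_cons, herm_cons, zero_mul, zero_mul, zero_add, zero_add]

theorem exists_perp_two_P (hF : Fintype.card F = q ^ 2) {n : ℕ} (v w u : Pt (n + 4) F q)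
    (hvw : adj v w) (P : F → Prop)
    (h0 : P 0) (h1 : ∃ γ : F, γ ≠ 0 ∧ P (γ * γ ^ q)) :
    ∃ x : Pt (n + 4) F q,
      hermForm (n + 4) F q v.val x.val = 0 ∧ hermForm (n + 4) F q w.val x.val = 0 ∧
      P (hermForm (n + 4) F q x.val u.val * hermForm (n + 4) F q x.val u.val ^ q) := by
  obtain ⟨x, r, x', a, b, c, d⟩ := exists_perp_two hF v w hvw
    (fun r x' => P (hermForm (n + 2) F q x'.val r * hermForm (n + 2) F q x'.val r ^ q))
    (fun r => exists_unit_P hF r P h0 h1) u.val
  exact ⟨x, a, b, by rw [d]; exact c⟩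

/-- counting norms -/
theorem exists_norm_avoid (hF : Fintype.card F = q ^ 2) (S : Finset F)
    (hS : 1 + S.card * (q + 1) < q ^ 2) : ∃ γ : F, γ ≠ 0 ∧ γ * γ ^ q ∉ S := by
  classical
  have hbad : ∀ c : F, (Finset.univ.filter fun y : F => y * y ^ q = c).card ≤ q + 1 := by
    intro c
    by_cases hc0 : c = 0
    · subst hc0
      have : (Finset.univ.filter fun y : F => y * y ^ q = 0) ⊆ {0} := by
        intro y hy
        simp only [Finset.mem_filter, Finset.mem_univ, true_and] at hy
        rw [Finset.mem_singleton]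
        exact (norm_eq_zero hF).1 hy
      have := Finset.card_le_card this
      rw [Finset.card_singleton] at this
      omega
    · by_cases hc : c ^ q = c
      · rw [← card_norm_eq hF hc hc0, Nat.card_eq_fintype_card, Fintype.card_subtype]
      · have : (Finset.univ.filter fun y : F => y * y ^ q = c) = ∅ := by
          apply Finset.filter_false_of_mem
          intro y _ hy
          apply hc
          rw [← hy, norm_pow_q hF]
        rw [this, Finset.card_empty]
        omega
  have hlt : ({0} ∪ S.biUnion (fun c => Finset.univ.filter fun y : F => y * y ^ q = c)).card <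
      (Finset.univ : Finset F).card := by
    rw [Finset.card_univ, hF]
    calc ({0} ∪ S.biUnion (fun c => Finset.univ.filter fun y : F => y * y ^ q = c)).card
        ≤ ({0} : Finset F).card +
          (S.biUnion (fun c => Finset.univ.filter fun y : F => y * y ^ q = c)).card :=
          Finset.card_union_le _ _
      _ ≤ 1 + S.card * (q + 1) := by
          rw [Finset.card_singleton]
          gcongr
          exact Finset.card_biUnion_le_card_mul _ _ _ (fun c _ => hbad c)
      _ < q ^ 2 := hS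
  obtain ⟨γ, -, hγ⟩ := Finset.exists_mem_notMem_of_card_lt_card hlt
  simp only [Finset.mem_union, Finset.mem_singleton, Finset.mem_biUnion, Finset.mem_filter,
    Finset.mem_univ, true_and, not_or, not_exists, not_and] at hγ
  exact ⟨γ, hγ.1, fun h => hγ.2 _ h rfl⟩

/-- a common neighbour of three vectors, two of them adjacent -/
theorem exists_common_three (hF : Fintype.card F = q ^ 2) (hq : 3 ≤ q) {n : ℕ}
    (u v w : Pt (n + 4) F q) (hvw : adj v w) : ∃ y, adj u y ∧ adj v y ∧ adj w y := by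
  classical
  obtain ⟨γ, hγ0, hγ⟩ := exists_norm_avoid hF {(1 : F)} (by
    rw [Finset.card_singleton]; nlinarith)
  rw [Finset.mem_singleton] at hγ
  obtain ⟨x, h1, h2, h3⟩ := exists_perp_two_P hF v w u hvw (fun t => t ≠ 1) zero_ne_one
    ⟨γ, hγ0, hγ⟩
  refine ⟨x, ?_, ?_, ?_⟩
  · apply adj_symm
    rw [adj, herm_swap hF x.val u.val]
    exact h3
  · rw [adj, h1, zero_mul]; exact zero_ne_one
  · rw [adj, h2, zero_mul]; exact zero_ne_one

end Cfsg.Agent.H433
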