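import Cfsg.Agent.H433.Conn

/-!
# The common neighbourhood of two non-adjacent vectors is connected (`q ≥ 3`, dimension `≥ 4`)
-/

set_option autoImplicit false

namespace Cfsg.Agent.H433

open Matrix Cfsg
open Cfsg.Agent.LieClassical.HermBasic
open Cfsg.Agent.Phan

variable {F : Type*} [Field F] {q : ℕ} [Fintype F]

omit [Fintype F] in
theorem step_symm {n : ℕ} {p w u v : Pt n F q} (h : Step adj p w u v) : Step adj p w v u :=
  ⟨h.2.2.1, h.2.2.2.1, h.1, h.2.1, adj_symm h.2.2.2.2⟩

omit [Fintype F] in
theorem chain_symm {n : ℕ} {p w u v : Pt n F q} (h : Relation.ReflTransGen (Step adj p w) u v) :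
    Relation.ReflTransGen (Step adj p w) v u := by
  induction h with
  | refl => exact Relation.ReflTransGen.refl
  | tail _ h2 ih => exact Relation.ReflTransGen.head (step_symm h2) ih

/-- a splitting of the norm one -/
theorem exists_split (hF : Fintype.card F = q ^ 2) (hq : 3 ≤ q) :
    ∃ a b : F, a * a ^ q + b * b ^ q = 1 ∧ a * a ^ q ≠ 1 ∧ b * b ^ q ≠ 1 := by
  classical
  obtain ⟨a, ha0, ha⟩ := exists_norm_avoid hF {(1 : F)} (by
    rw [Finset.card_singleton]; nlinarith)
  rw [Finset.mem_singleton] at ha
  obtain ⟨b, hb⟩ := exists_norm_eq hF (c := 1 - a * a ^ q) (by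
    rw [sub_pow_q hF, one_pow, norm_pow_q hF])
  refine ⟨a, b, by rw [hb]; ring, ha, ?_⟩
  rw [hb]
  intro h
  apply ha0
  rw [← norm_eq_zero hF]
  linear_combination -h

theorem link_connected (hF : Fintype.card F = q ^ 2) (hq : 3 ≤ q) {n : ℕ}
    (p w u v : Pt (n + 4) F q) (hpw : ¬ adj p w) (hpu : adj p u) (hwu : adj w u) (hpv : adj p v)
    (hwv : adj w v) : Relation.ReflTransGen (Step adj p w) u v := by
  classical
  set c := hermForm (n + 4) F q w.val p.val with hc
  have hcp : hermForm (n + 4) F q p.val w.val = c ^ q := by rw [herm_swap hF w.val p.val]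
  have hcc : c * c ^ q = 1 := by
    by_contra h
    apply hpw
    rw [adj, ← hc, hcp, mul_comm]
    exact h
  set r := w.val - c • p.val with hr
  have hw : w.val = c • p.val + r := by rw [hr]; abel
  have hrp : hermForm (n + 4) F q r p.val = 0 := by
    rw [hr, herm_sub_left, herm_smul_left, p.norm, mul_one, ← hc, sub_self]
  have hpr : hermForm (n + 4) F q p.val r = 0 := herm_eq_zero_swap hF hrp
  have hrr : hermForm (n + 4) F q r r = 0 := by
    have h1 := w.norm
    rw [hw, herm_add_left, herm_add_right hF, herm_add_right hF, herm_smul_left, herm_smul_left,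
      herm_smul_right, herm_smul_right, hrp, hpr, p.norm] at h1
    linear_combination h1 - hcc
  -- adjacency to `w` of a vector perpendicular to `r`
  have hadjw : ∀ x : Pt (n + 4) F q, hermForm (n + 4) F q x.val r = 0 → adj p x → adj w x := by
    intro x hx hpx
    have hx' : hermForm (n + 4) F q r x.val = 0 := herm_eq_zero_swap hF hx
    intro h
    apply hpx
    rw [hw, herm_add_left, herm_add_right hF, herm_smul_left, herm_smul_right, hx, hx'] at h
    rw [← h]
    linear_combination (-hermForm (n + 4) F q p.val x.val * hermForm (n + 4) F q x.val p.val) * hcc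
  by_cases hr0 : r = 0
  · -- `w` is a multiple of `p`
    obtain ⟨x, hx1, hx2, hx3⟩ := exists_common_three hF hq v p u hpu
    have hwx : adj w x := hadjw x (by rw [hr0, herm_zero_right hF]) hx2
    exact (Relation.ReflTransGen.single ⟨hpu, hwu, hx2, hwx, hx3⟩).trans
      (Relation.ReflTransGen.single ⟨hx2, hwx, hpv, hwv, adj_symm hx1⟩)
  -- the vectors perpendicular to `p` and `w`
  obtain ⟨a, b, hab, ha1, hb1⟩ := exists_split hF hq
  have hperp : ∀ m : Pt (n + 4) F q, hermForm (n + 4) F q m.val p.val = 0 →
      hermForm (n + 4) F q m.val r = 0 → adj p m ∧ adj w m := by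
    intro m h1 h2
    have h3 : adj p m := by rw [adj, h1, mul_zero]; exact zero_ne_one
    exact ⟨h3, hadjw m h2 h3⟩
  have claimB : ∀ m m' : Pt (n + 4) F q, hermForm (n + 4) F q m.val p.val = 0 →
      hermForm (n + 4) F q m.val r = 0 → hermForm (n + 4) F q m'.val p.val = 0 →
      hermForm (n + 4) F q m'.val r = 0 → Relation.ReflTransGen (Step adj p w) m m' := by
    intro m m' h1 h2 h1' h2'
    by_cases hmm : adj m m'
    · exact Relation.ReflTransGen.single ⟨(hperp m h1 h2).1, (hperp m h1 h2).2,
        (hperp m' h1' h2').1, (hperp m' h1' h2').2, hmm⟩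
    -- `x = a p + b m`
    have hpm : hermForm (n + 4) F q p.val m.val = 0 := herm_eq_zero_swap hF h1
    have hpm' : hermForm (n + 4) F q p.val m'.val = 0 := herm_eq_zero_swap hF h1'
    have hxn : hermForm (n + 4) F q (a • p.val + b • m.val) (a • p.val + b • m.val) = 1 := by
      rw [herm_add_left, herm_add_right hF, herm_add_right hF, herm_smul_left, herm_smul_left,
        herm_smul_left, herm_smul_left, herm_smul_right, herm_smul_right, herm_smul_right,
        herm_smul_right, h1, hpm, p.norm, m.norm]
      linear_combination hab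
    set x : Pt (n + 4) F q := ⟨a • p.val + b • m.val, hxn⟩ with hx
    have hxv : x.val = a • p.val + b • m.val := rfl
    have hxp : hermForm (n + 4) F q x.val p.val = a := by
      rw [hxv, herm_add_left, herm_smul_left, herm_smul_left, p.norm, h1]; ring
    have hxr : hermForm (n + 4) F q x.val r = 0 := by
      rw [hxv, herm_add_left, herm_smul_left, herm_smul_left, hpr, h2]; ring
    have hxm : hermForm (n + 4) F q x.val m.val = b := by
      rw [hxv, herm_add_left, herm_smul_left, herm_smul_left, m.norm, hpm]; ring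
    have hxm' : hermForm (n + 4) F q x.val m'.val = b * hermForm (n + 4) F q m.val m'.val := by
      rw [hxv, herm_add_left, herm_smul_left, herm_smul_left, hpm']; ring
    have a1 : adj p x := by
      apply adj_symm
      rw [adj, herm_swap hF x.val p.val, hxp]
      exact ha1
    have a2 : adj w x := hadjw x hxr a1
    have a3 : adj m x := by
      apply adj_symm
      rw [adj, herm_swap hF x.val m.val, hxm]
      exact hb1
    have a4 : adj x m' := by
      rw [adj, herm_swap hF x.val m'.val, hxm']
      have h3 : hermForm (n + 4) F q m.val m'.val * hermForm (n + 4) F q m.val m'.val ^ q = 1 := by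
        rw [← herm_swap hF]
        by_contra h
        exact hmm h
      rw [LieClassical.HermBasic.norm_mul, h3, mul_one]
      exact hb1
    exact (Relation.ReflTransGen.single ⟨(hperp m h1 h2).1, (hperp m h1 h2).2, a1, a2, a3⟩).trans
      (Relation.ReflTransGen.single ⟨a1, a2, (hperp m' h1' h2').1, (hperp m' h1' h2').2, a4⟩)
  -- a vector perpendicular to `p` and `r`
  obtain ⟨m₀, hm₀p, hm₀r⟩ : ∃ m : Pt (n + 4) F q, hermForm (n + 4) F q m.val p.val = 0 ∧
      hermForm (n + 4) F q m.val r = 0 := by
    obtain ⟨g, hg⟩ := exists_su_smul hF (e0 (n + 3) F q) p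
    have hg' : mat g *ᵥ (e0 (n + 3) F q).val = p.val := congrArg Pt.val hg
    set r' := mat g⁻¹ *ᵥ r with hr'
    have hrr' : mat g *ᵥ r' = r := by
      rw [hr', Matrix.mulVec_mulVec, mat_mul_inv, Matrix.one_mulVec]
    obtain ⟨x, hx⟩ := exists_unit_perp hF (n := n) (fun j => r' j.succ)
    refine ⟨⟨mat g *ᵥ (Fin.cons 0 x.val), ?_⟩, ?_, ?_⟩
    · rw [mat_isom, herm_cons, x.norm, zero_mul, zero_add]
    · change hermForm (n + 4) F q (mat g *ᵥ (Fin.cons 0 x.val)) p.val = 0
      rw [← hg', mat_isom, herm_e0_right hF, Fin.cons_zero]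
    · change hermForm (n + 4) F q (mat g *ᵥ (Fin.cons 0 x.val)) r = 0
      rw [← hrr', mat_isom, Phan.cons_head_tail r', herm_cons, hx, zero_mul, zero_add]
  have claimA : ∀ z : Pt (n + 4) F q, adj p z → adj w z → ∃ m : Pt (n + 4) F q,
      hermForm (n + 4) F q m.val p.val = 0 ∧ hermForm (n + 4) F q m.val r = 0 ∧
      Relation.ReflTransGen (Step adj p w) z m := by
    intro z hpz hwz
    by_cases hrz : hermForm (n + 4) F q r z.val = 0
    · have hzr : hermForm (n + 4) F q z.val r = 0 := herm_eq_zero_swap hF hrz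
      set κ := hermForm (n + 4) F q z.val p.val with hκ
      have hκp : hermForm (n + 4) F q p.val z.val = κ ^ q := herm_swap hF _ _
      have hκ1 : κ * κ ^ q ≠ 1 := by
        have := adj_symm hpz
        rwa [adj, hκp, ← hκ] at this
      by_cases hκ0 : κ = 0
      · exact ⟨z, hκ0, hzr, Relation.ReflTransGen.refl⟩
      obtain ⟨ν, hν0, hν⟩ := exists_norm_eq_ne hF (c := 1 - κ * κ ^ q) (by
        rw [sub_pow_q hF, one_pow, norm_pow_q hF]) (sub_ne_zero.2 (Ne.symm hκ1))
      have hνq : ν ^ q ≠ 0 := pow_ne_zero _ hν0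
      have hyn : hermForm (n + 4) F q (z.val - κ • p.val) (z.val - κ • p.val) = ν * ν ^ q := by
        rw [herm_sub_left, herm_sub_right hF, herm_sub_right hF, herm_smul_left, herm_smul_left,
          herm_smul_right, herm_smul_right, p.norm, z.norm, ← hκ, hκp, hν]
        ring
      have hmn : hermForm (n + 4) F q (ν⁻¹ • (z.val - κ • p.val)) (ν⁻¹ • (z.val - κ • p.val)) =
          1 := by
        rw [herm_smul_left, herm_smul_right, hyn, inv_pow]
        field_simp
      set m : Pt (n + 4) F q := ⟨ν⁻¹ • (z.val - κ • p.val), hmn⟩ with hm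
      have hmv : m.val = ν⁻¹ • (z.val - κ • p.val) := rfl
      have h1 : hermForm (n + 4) F q m.val p.val = 0 := by
        rw [hmv, herm_smul_left, herm_sub_left, herm_smul_left, p.norm, ← hκ]; ring
      have h2 : hermForm (n + 4) F q m.val r = 0 := by
        rw [hmv, herm_smul_left, herm_sub_left, herm_smul_left, hpr, hzr]; ring
      refine ⟨m, h1, h2, Relation.ReflTransGen.single ⟨hpz, hwz, (hperp m h1 h2).1,
        (hperp m h1 h2).2, ?_⟩⟩
      have hzm : hermForm (n + 4) F q z.val m.val = ν := by
        rw [hmv, herm_smul_right, herm_sub_right hF, herm_smul_right, z.norm, ← hκ, inv_pow]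
        have : 1 - κ ^ q * κ = ν * ν ^ q := by rw [hν]; ring
        rw [this]
        field_simp
      rw [adj, herm_swap hF z.val m.val, hzm, hν]
      intro h
      apply hκ0
      rw [← norm_eq_zero hF]
      linear_combination -h
    · have hrm : hermForm (n + 4) F q r m₀.val = 0 := herm_eq_zero_swap hF hm₀r
      obtain ⟨s, -, m, hm, hmz⟩ := exists_move hF m₀ hrr hrm {z} ∅ (by
        intro b hb
        rw [Finset.mem_singleton] at hb
        rw [hb]
        exact Or.inl hrz) (by
        rw [Finset.card_singleton, Finset.card_empty]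
        nlinarith)
      have h1 : hermForm (n + 4) F q m.val p.val = 0 := by
        rw [hm, herm_add_left, herm_smul_left, hm₀p, hrp]; ring
      have h2 : hermForm (n + 4) F q m.val r = 0 := by
        rw [hm, herm_add_left, herm_smul_left, hm₀r, hrr]; ring
      exact ⟨m, h1, h2, Relation.ReflTransGen.single ⟨hpz, hwz, (hperp m h1 h2).1,
        (hperp m h1 h2).2, adj_symm (hmz z (Finset.mem_singleton_self z))⟩⟩
  obtain ⟨m, h1, h2, h3⟩ := claimA u hpu hwu
  obtain ⟨m', h1', h2', h3'⟩ := claimA v hpv hwv
  exact (h3.trans (claimB m m' h1 h2 h1' h2')).trans (chain_symm h3')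

end Cfsg.Agent.H433
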