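import Cfsg.Agent.Phan.Main
import Cfsg.Agent.H433.Link

/-!
# The inductive step of Phan's theorem for `q ≥ 3`, given apexes
-/

set_option autoImplicit false

namespace Cfsg.Agent.H433

open Matrix Cfsg
open Cfsg.Agent.LieClassical.HermBasic
open Cfsg.Agent.Phan
open Cfsg.Agent.Phan.Cover

variable {F : Type*} [Field F] {q : ℕ} [Fintype F]

omit [Fintype F] in
/-- The apex of a good cone over the triangle `v, w, u`, perpendicular to `v`, `w`. -/
def Apex {n : ℕ} (v w u : Pt n F q) : Prop :=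
  ∃ x : Pt n F q, hermForm n F q v.val x.val = 0 ∧
      hermForm n F q w.val x.val = 0 ∧ adj u x ∧
      hermForm n F q u.val v.val * hermForm n F q v.val u.val +
        hermForm n F q u.val x.val * hermForm n F q x.val u.val ≠ 1 ∧
      hermForm n F q u.val w.val * hermForm n F q w.val u.val +
        hermForm n F q u.val x.val * hermForm n F q x.val u.val ≠ 1

/-- **The inductive step.** -/
theorem exists_extension_of_apex (hF : Fintype.card F = q ^ 2) (hq : 3 ≤ q) (n : ℕ)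
    (hapex : ∀ v w u : Pt (n + 4) F q, adj v w → adj v u → adj w u →
      Apex v w u ∨ Apex v u w ∨ Apex w u v) {H : Type*} [Group H]
    (α : SU (n + 3) F q →* H) (γ : SU 3 F q →* H)
    (hα : ∀ x : SU 2 F q, γ (emb hF 1 (by omega) x) = α (emb hF 0 (by omega) x))
    (hc : ∀ (c : SU (n + 2) F q) (a : SU 2 F q),
      α (emb hF 1 (by omega) c) * γ (emb hF 0 (by omega) a) =
        γ (emb hF 0 (by omega) a) * α (emb hF 1 (by omega) c)) :
    ∃ Φ : SU (n + 4) F q →* H, (∀ x : SU (n + 3) F q, Φ (emb hF 1 (by omega) x) = α x) ∧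
      ∀ x : SU 3 F q, Φ (emb hF 0 (by omega) x) = γ x := by
  set φ : SU 2 F q →* H := γ.comp (emb hF 0 (by omega)) with hφ
  have hφa : ∀ a, φ a = γ (emb hF 0 (by omega) a) := fun a => rfl
  -- relations between the embeddings
  have r1 : ∀ t : SU 2 F q, emb hF 1 (by omega : 1 + (n + 3) ≤ n + 4)
      (emb hF 0 (by omega : 0 + 2 ≤ n + 3) t) =
      emb hF 0 (by omega : 0 + 3 ≤ n + 4) (emb hF 1 (by omega : 1 + 2 ≤ 3) t) := by
    intro t
    rw [emb_emb, emb_emb]
  have r2 : ∀ a : SU 2 F q, emb hF 0 (by omega : 0 + 2 ≤ n + 4) a =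
      emb hF 0 (by omega : 0 + 3 ≤ n + 4) (emb hF 0 (by omega : 0 + 2 ≤ 3) a) := by
    intro a
    rw [emb_emb]
  have r3 : ∀ (c : SU (n + 2) F q) (a : SU 2 F q),
      emb hF 1 (by omega : 1 + (n + 3) ≤ n + 4) (emb hF 1 (by omega : 1 + (n + 2) ≤ n + 3) c) *
        emb hF 0 (by omega : 0 + 2 ≤ n + 4) a =
      emb hF 0 (by omega : 0 + 2 ≤ n + 4) a *
        emb hF 1 (by omega : 1 + (n + 3) ≤ n + 4)
          (emb hF 1 (by omega : 1 + (n + 2) ≤ n + 3) c) := by
    intro c a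
    rw [emb_emb, emb_comm]
    right
    omega
  have hyp : (ctx hF (n + 1) α φ).Hyp := by
    refine ctx_hyp hF (n + 1) α φ ?_
    intro k a b ha e
    obtain ⟨t, c, hk, e3⟩ := decomp_of_map hF k a b ha e
    have hfix : ((emb hF 0 (by omega : 0 + 2 ≤ 3) b)⁻¹ * (emb hF 1 (by omega : 1 + 2 ≤ 3) t *
        emb hF 0 (by omega : 0 + 2 ≤ 3) a)) • e0 2 F q = e0 2 F q := by
      rw [mul_smul, mul_smul, e3, inv_smul_smul]
    obtain ⟨d, hd⟩ := exists_emb_of_fix hF _ hfix
    have hd' : emb hF 1 (by omega : 1 + 2 ≤ 3) t * emb hF 0 (by omega : 0 + 2 ≤ 3) a =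
        emb hF 0 (by omega : 0 + 2 ≤ 3) b * emb hF 1 (by omega : 1 + 2 ≤ 3) d := by
      rw [hd, mul_inv_cancel_left]
    refine ⟨emb hF 0 (by omega) d * emb hF 1 (by omega) c, ?_, ?_⟩
    · rw [hk, map_mul, map_mul, mul_assoc, r3, ← mul_assoc, ← mul_assoc, r1, r1, r2 a, r2 b,
        ← map_mul, ← map_mul, hd']
    · rw [hk, map_mul, map_mul, hφa, hφa, mul_assoc, hc, ← mul_assoc, ← mul_assoc, ← hα, ← hα,
        ← map_mul, ← map_mul, hd']
  -- the third subgroup
  have hB : ∀ b : SU 3 F q, adj (e0 (n + 3) F q)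
      (emb hF 0 (by omega : 0 + 3 ≤ n + 4) b • e0 (n + 3) F q) →
      (ctx hF (n + 1) α φ).E (emb hF 0 (by omega : 0 + 3 ≤ n + 4) b, γ b) := by
    intro b hb
    have hb3 := adj_emb_three hF b hb
    obtain ⟨k, a, hka⟩ := exists_of_adj hF (n := 0) _ hb3
    have hfix : ((emb hF 1 (by omega : 1 + 2 ≤ 3) k * emb hF 0 (by omega : 0 + 2 ≤ 3) a)⁻¹ * b) •
        e0 2 F q = e0 2 F q := by
      rw [mul_smul, inv_smul_eq_iff, mul_smul]
      exact hka.symm
    obtain ⟨l, hl⟩ := exists_emb_of_fix hF _ hfix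
    have hbe : b = emb hF 1 (by omega : 1 + 2 ≤ 3) k * emb hF 0 (by omega : 0 + 2 ≤ 3) a *
        emb hF 1 (by omega : 1 + 2 ≤ 3) l := by
      rw [hl, mul_inv_cancel_left]
    have ha : mat a 1 0 ≠ 0 := by
      rw [← adj_emb_iff hF (n := 1)]
      have h1 := adj_smul (emb hF 1 (by omega : 1 + 2 ≤ 3) k)⁻¹ hb3
      rw [← hka, inv_smul_smul, inv_smul_eq_iff.2 (emb_one_e0 hF k).symm] at h1
      exact h1
    refine ⟨emb hF 0 (by omega) k, a, emb hF 0 (by omega) l, ?_, ?_⟩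
    · exact (adj_emb_iff hF (n := n + 2) a).2 ha
    · refine Prod.ext ?_ ?_
      · change emb hF 0 (by omega : 0 + 3 ≤ n + 4) b =
          emb hF 1 (by omega : 1 + (n + 3) ≤ n + 4) (emb hF 0 (by omega : 0 + 2 ≤ n + 3) k) *
            emb hF 0 (by omega : 0 + 2 ≤ n + 4) a *
            emb hF 1 (by omega : 1 + (n + 3) ≤ n + 4) (emb hF 0 (by omega : 0 + 2 ≤ n + 3) l)
        rw [r1, r1, r2, ← map_mul, ← map_mul, ← hbe]
      · change γ b = α (emb hF 0 (by omega) k) * φ a * α (emb hF 0 (by omega) l)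
        rw [← hα, ← hα, hφa, ← map_mul, ← map_mul, ← hbe]
  -- good triangles
  have hgood : ∀ v x u : Pt (n + 4) F q, hermForm (n + 4) F q v.val x.val = 0 → adj v u →
      adj x u → hermForm (n + 4) F q u.val v.val * hermForm (n + 4) F q v.val u.val +
        hermForm (n + 4) F q u.val x.val * hermForm (n + 4) F q x.val u.val ≠ 1 →
      (ctx hF (n + 1) α φ).Tri v x u := by
    intro v x u hvx hvu hxu hrem
    obtain ⟨g, x₁, x₂, x₃, h1, h2, h3⟩ := exists_frame hF v x u hvx hrem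
    have hadj : adj v x := by
      rw [adj, hvx, zero_mul]
      exact zero_ne_one
    rw [← h1, ← h2, ← h3]
    apply hyp.tri_smul
    refine hyp.tri_of_hom (emb hF 0 (by omega : 0 + 3 ≤ n + 4)) γ hB x₁ x₂ x₃ ?_ ?_ ?_
    · have := adj_smul g⁻¹ hadj
      rw [← h1, ← h2, inv_smul_smul, inv_smul_smul] at this
      exact this
    · have := adj_smul g⁻¹ hvu
      rw [← h1, ← h3, inv_smul_smul, inv_smul_smul] at this
      exact this
    · have := adj_smul g⁻¹ hxu
      rw [← h2, ← h3, inv_smul_smul, inv_smul_smul] at this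
      exact this
  have htri' : ∀ v w u : Pt (n + 4) F q, adj v w → adj v u → adj w u → Apex v w u →
      (ctx hF (n + 1) α φ).Tri v w u := by
    intro v w u hvw hvu hwu hA
    obtain ⟨x, h1, h2, h3, h4, h5⟩ := hA
    have t1 := hgood v x u h1 hvu (adj_symm h3) h4
    have t2 := hgood w x u h2 hwu (adj_symm h3) h5
    have hxw : adj x w := by
      rw [adj, h2, mul_zero]
      exact zero_ne_one
    have t3 := hgood v x w h1 hvw hxw (by
      rw [h2, zero_mul, add_zero]
      exact adj_symm hvw)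
    exact hyp.cone (hyp.tri_swap t3) (hyp.tri_swap t1) (hyp.tri_swap t2)
  have htri : ∀ u v w : Pt (n + 4) F q, adj u v → adj u w → adj v w →
      (ctx hF (n + 1) α φ).Tri u v w := by
    intro v w u hvw hvu hwu
    rcases hapex v w u hvw hvu hwu with h | h | h
    · exact htri' v w u hvw hvu hwu h
    · exact hyp.tri_swap' (htri' v u w hvu hvw (adj_symm hwu) h)
    · exact hyp.tri_swap (hyp.tri_swap' (htri' w u v hwu (adj_symm hvw) (adj_symm hvu) h))
  obtain ⟨Φ, hΦ1, hΦ2⟩ := exists_hom_of_conn hyp htri (fun u v => exists_common_two hF hq u v)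
    (fun u v w h => exists_common_three hF hq u v w h)
    (fun w u v h1 h2 h3 h4 h5 => link_connected hF hq _ w u v h1 h2 h3 h4 h5)
  have hΦ1' : ∀ x : SU (n + 3) F q, Φ (emb hF 1 (by omega) x) = α x := hΦ1
  have hΦ2' : ∀ a : SU 2 F q, Φ (emb hF 0 (by omega) a) = φ a := by
    intro a
    have key : ∀ b : SU 2 F q, mat b 1 0 ≠ 0 → Φ (emb hF 0 (by omega) b) = φ b := by
      intro b hb
      exact hΦ2 b ((adj_emb_iff hF (n := n + 2) b).2 hb)
    by_cases ha : mat a 1 0 = 0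
    · obtain ⟨s, hs1, hs2⟩ := exists_mul_of_zero hF a ha
      have h1 := key _ hs2
      rw [map_mul, map_mul, map_mul, key s hs1] at h1
      exact mul_right_cancel h1
    · exact key a ha
  refine ⟨Φ, hΦ1', ?_⟩
  have hext : Φ.comp (emb hF 0 (by omega : 0 + 3 ≤ n + 4)) = γ := by
    refine hom_ext hF (by omega) 0 ?_ ?_
    · intro x
      change Φ (emb hF 0 (by omega : 0 + 3 ≤ n + 4) (emb hF 1 (by omega : 1 + 2 ≤ 3) x)) = _
      rw [← r1, hΦ1', ← hα]
    · intro x
      change Φ (emb hF 0 (by omega : 0 + 3 ≤ n + 4) (emb hF 0 (by omega : 0 + 2 ≤ 3) x)) = _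
      rw [← r2, hΦ2', hφa]
  intro x
  rw [← hext]
  rfl


end Cfsg.Agent.H433
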