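import Cfsg.Agent.H433.Pair
import Cfsg.Agent.OddCyclic.T1Sl2
import Cfsg.Agent.TwoFusion.SLTwoFacts

/-!
# Subgroups `SU 2` of `SU 3` fix a vector of norm one
-/

set_option autoImplicit false

namespace Cfsg.Agent.H433

open Matrix Cfsg
open Cfsg.Agent.LieClassical.HermBasic
open Cfsg.Agent.Phan

variable {F : Type*} [Field F] {q : ℕ} [Fintype F]

/-- two perpendicular isotropic vectors in dimension three are proportional -/
theorem isotropic_proportional (hF : Fintype.card F = q ^ 2) {r s : Fin 3 → F} (hr0 : r ≠ 0)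
    (hr : hermForm 3 F q r r = 0) (hs : hermForm 3 F q s s = 0) (hrs : hermForm 3 F q s r = 0) :
    ∃ c : F, s = c • r := by
  obtain ⟨x, hx⟩ := exists_unit_of_isotropic hF hr hr0 (one_ne_zero (α := F))
  obtain ⟨g, hg⟩ := exists_su_smul hF (e0 2 F q) x
  have hg' : mat g *ᵥ (e0 2 F q).val = x.val := congrArg Pt.val hg
  set r' := mat g⁻¹ *ᵥ r with hr'
  have hgr : mat g *ᵥ r' = r := by
    rw [hr', Matrix.mulVec_mulVec, mat_mul_inv, Matrix.one_mulVec]
  set s' := mat g⁻¹ *ᵥ s with hs'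
  have hgs : mat g *ᵥ s' = s := by
    rw [hs', Matrix.mulVec_mulVec, mat_mul_inv, Matrix.one_mulVec]
  have h0 : r' 0 = 1 := by
    have h1 := hx
    rw [← hg', ← hgr, mat_isom, herm_e0_left] at h1
    have h2 := congrArg (fun z => z ^ q) h1
    simpa [pow_q_pow_q hF] using h2
  have hrn : hermForm 3 F q r' r' = 0 := by rw [← mat_isom g, hgr, hr]
  set u := s' - s' 0 • r' with hu
  have hun : hermForm 3 F q u u = 0 := by
    have h1 : hermForm 3 F q s' s' = 0 := by rw [← mat_isom g, hgs, hs]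
    have h2 : hermForm 3 F q s' r' = 0 := by rw [← mat_isom g, hgs, hgr, hrs]
    have h3 : hermForm 3 F q r' s' = 0 := herm_eq_zero_swap hF h2
    rw [hu, herm_sub_left, herm_sub_right hF, herm_sub_right hF, herm_smul_left, herm_smul_left,
      herm_smul_right, herm_smul_right, h1, h2, h3, hrn]
    ring
  have hur : hermForm 3 F q u r' = 0 := by
    have h2 : hermForm 3 F q s' r' = 0 := by rw [← mat_isom g, hgs, hgr, hrs]
    rw [hu, herm_sub_left, herm_smul_left, h2, hrn]
    ring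
  have hu0 : u 0 = 0 := by
    rw [hu, Pi.sub_apply, Pi.smul_apply, smul_eq_mul, h0, mul_one, sub_self]
  rw [herm_def, Fin.sum_univ_three, hu0, zero_mul, zero_add] at hun hur
  rw [herm_def, Fin.sum_univ_three, h0, one_pow, mul_one] at hrn
  -- `u 1 * r1^q = - u 2 * r2^q`
  have h4 : (u 1 * u 1 ^ q) * (r' 1 * r' 1 ^ q) = (u 2 * u 2 ^ q) * (r' 2 * r' 2 ^ q) := by
    have h5 : u 1 * r' 1 ^ q = -(u 2 * r' 2 ^ q) := by linear_combination hur
    have h6 := congrArg (fun z => z * z ^ q) h5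
    simp only [neg_pow_q hF, mul_pow, pow_q_pow_q hF] at h6
    linear_combination h6
  have h7 : u 1 * u 1 ^ q = 0 := by
    have h8 : u 2 * u 2 ^ q = -(u 1 * u 1 ^ q) := by linear_combination hun
    rw [h8] at h4
    linear_combination (u 1 * u 1 ^ q) * hrn - h4
  have h1z : u 1 = 0 := (norm_eq_zero hF).1 h7
  have h2z : u 2 = 0 := by
    rw [← norm_eq_zero hF]
    linear_combination hun - h7
  have huz : u = 0 := by
    funext i
    fin_cases i
    · exact hu0
    · exact h1z
    · exact h2z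
  refine ⟨s' 0, ?_⟩
  rw [← hgs, ← hgr, ← Matrix.mulVec_smul]
  congr 1
  exact sub_eq_zero.1 huz

/-- The centre of an involution in characteristic two. -/
theorem exists_centre (hF : Fintype.card F = q ^ 2) (h2 : (2 : F) = 0) (T : SU 3 F q) (hT : T ≠ 1)
    (hTT : T * T = 1) : ∃ r : Fin 3 → F, r ≠ 0 ∧ hermForm 3 F q r r = 0 ∧
      (∀ x, mat T *ᵥ x = x ↔ hermForm 3 F q x r = 0) ∧ ∀ x, ∃ c : F, mat T *ᵥ x = x + c • r := by
  have hN : ∀ x, mat T *ᵥ (mat T *ᵥ x - x) = mat T *ᵥ x - x := by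
    intro x
    rw [Matrix.mulVec_sub, Matrix.mulVec_mulVec, ← mat_mul, hTT, mat_one, Matrix.one_mulVec]
    have : ∀ y : Fin 3 → F, -y = y := by
      intro y
      funext i
      rw [Pi.neg_apply]
      linear_combination (-y i) * h2
    rw [← this (x - mat T *ᵥ x), neg_sub]
  -- fixed vectors are perpendicular to the image
  have hperp : ∀ x y, mat T *ᵥ y = y → hermForm 3 F q (mat T *ᵥ x - x) y = 0 := by
    intro x y hy
    rw [herm_sub_left]
    nth_rw 1 [← hy]
    rw [mat_isom, sub_self]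
  obtain ⟨x₀, hx₀⟩ : ∃ x, mat T *ᵥ x ≠ x := by
    by_contra hcon
    push Not at hcon
    apply hT
    apply mat_inj
    rw [mat_one]
    apply Matrix.ext_of_mulVec_single
    intro j
    rw [hcon, Matrix.one_mulVec]
  set r := mat T *ᵥ x₀ - x₀ with hr
  have hr0 : r ≠ 0 := sub_ne_zero.2 hx₀
  have hrr : hermForm 3 F q r r = 0 := hperp x₀ r (hN x₀)
  have him : ∀ x, ∃ c : F, mat T *ᵥ x - x = c • r := by
    intro x
    exact isotropic_proportional hF hr0 hrr (hperp x _ (hN x)) (hperp x r (hN x₀))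
  refine ⟨r, hr0, hrr, ?_, ?_⟩
  · intro x
    constructor
    · intro hx
      exact herm_eq_zero_swap hF (hperp x₀ x hx)
    · intro hx
      have hrx : hermForm 3 F q r x = 0 := herm_eq_zero_swap hF hx
      obtain ⟨c, hc⟩ := him x
      have : mat T *ᵥ x - x = 0 := by
        apply herm_nondeg hF
        intro y
        obtain ⟨d, hd⟩ := him y
        have h3 : mat T *ᵥ y = y + d • r := by rw [← hd]; abel
        have h4 : mat T *ᵥ x = x + c • r := by rw [← hc]; abel
        have h5 := mat_isom T x y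
        rw [h3, h4, herm_add_left, herm_add_right hF, herm_add_right hF, herm_smul_right,
          herm_smul_right, hx, herm_smul_left, herm_smul_left, hrr] at h5
        rw [hc, herm_smul_left]
        linear_combination h5
      exact sub_eq_zero.1 this
  · intro x
    obtain ⟨c, hc⟩ := him x
    exact ⟨c, by rw [← hc]; abel⟩

/-- Commuting involutions have the same centre. -/
theorem centre_unique (hF : Fintype.card F = q ^ 2) (h2 : (2 : F) = 0) {T T' : SU 3 F q}
    {r r' : Fin 3 → F} (hr0 : r ≠ 0) (hr0' : r' ≠ 0) (hrr : hermForm 3 F q r r = 0)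
    (hrr' : hermForm 3 F q r' r' = 0)
    (hT : ∀ x, mat T *ᵥ x = x ↔ hermForm 3 F q x r = 0)
    (hT1 : ∀ x, ∃ c : F, mat T *ᵥ x = x + c • r)
    (hT' : ∀ x, mat T' *ᵥ x = x ↔ hermForm 3 F q x r' = 0)
    (hTT' : T' * T' = 1) (hcomm : T * T' = T' * T) :
    ∃ c : F, c ≠ 0 ∧ r' = c • r := by
  -- `T' r` is proportional to `r`
  obtain ⟨x, hx⟩ := exists_herm_ne_zero hF hr0
  have hx' : mat T *ᵥ x ≠ x := by
    intro h
    exact hx (herm_eq_zero_swap hF ((hT x).1 h))
  obtain ⟨c, hc⟩ := hT1 x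
  have hc0 : c ≠ 0 := by
    rintro rfl
    rw [zero_smul, add_zero] at hc
    exact hx' hc
  obtain ⟨d, hd⟩ := hT1 (mat T' *ᵥ x)
  have h3 : c • (mat T' *ᵥ r) = d • r := by
    have h4 : mat T *ᵥ (mat T' *ᵥ x) = mat T' *ᵥ (mat T *ᵥ x) := by
      rw [Matrix.mulVec_mulVec, Matrix.mulVec_mulVec, ← mat_mul, ← mat_mul, hcomm]
    rw [hd, hc, Matrix.mulVec_add, Matrix.mulVec_smul] at h4
    exact (add_left_cancel h4).symm
  have h5 : mat T' *ᵥ r = (c⁻¹ * d) • r := by
    rw [mul_smul, ← h3, smul_smul, inv_mul_cancel₀ hc0, one_smul]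
  set α := c⁻¹ * d with hα
  have h6 : r = (α * α) • r := by
    have h7 : mat T' *ᵥ (mat T' *ᵥ r) = r := by
      rw [Matrix.mulVec_mulVec, ← mat_mul, hTT', mat_one, Matrix.one_mulVec]
    rw [h5, Matrix.mulVec_smul, h5, smul_smul] at h7
    exact h7.symm
  have hα1 : α = 1 := by
    have h8 : (α * α - 1) • r = 0 := by rw [sub_smul, one_smul, ← h6, sub_self]
    have h9 : α * α - 1 = 0 := (smul_eq_zero.1 h8).resolve_right hr0
    have h10 : (α - 1) * (α - 1) = 0 := by linear_combination h9 + (1 - α) * h2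
    exact sub_eq_zero.1 (mul_self_eq_zero.1 h10)
  rw [hα1, one_smul] at h5
  have h11 : hermForm 3 F q r r' = 0 := (hT' r).1 h5
  obtain ⟨e, he⟩ := isotropic_proportional hF hr0 hrr hrr' (herm_eq_zero_swap hF h11)
  refine ⟨e, ?_, he⟩
  rintro rfl
  rw [zero_smul] at he
  exact hr0' he

theorem exists_fixed_even (hF : Fintype.card F = q ^ 2) (h2 : (2 : F) = 0) {K : Type*} [Field K]
    [Fintype K]
    (hK2 : (2 : K) = 0) (ρ : SpecialLinearGroup (Fin 2) K →* SU 3 F q)
    (hρ : Function.Injective ρ) : ∃ w : Pt 3 F q, ∀ x, ρ x • w = w := by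
  have hchar : CharP K 2 := CharTwo.of_one_ne_zero_of_two_eq_zero one_ne_zero hK2
  open Cfsg.Agent.OddCyclic.T1Sl2 in
  have hupinv : ∀ t : K, ρ (up t) * ρ (up t) = 1 := by
    intro t
    rw [← map_mul, up_mul]
    have : t + t = 0 := by linear_combination t * hK2
    rw [this, up_zero, map_one]
  have hlomul : ∀ s t : K, OddCyclic.T1Sl2.lo s * OddCyclic.T1Sl2.lo t =
      OddCyclic.T1Sl2.lo (s + t) := by
    intro s t
    apply OddCyclic.T1Sl2.ext2
    · rw [OddCyclic.T1Sl2.mul00]; simp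
    · rw [OddCyclic.T1Sl2.mul01]; simp
    · rw [OddCyclic.T1Sl2.mul10]; simp
    · rw [OddCyclic.T1Sl2.mul11]; simp
  have hlozero : OddCyclic.T1Sl2.lo (0 : K) = 1 := by
    apply OddCyclic.T1Sl2.ext2
    · simp
    · simp
    · simp
    · simp
  have hloinv : ∀ t : K, ρ (OddCyclic.T1Sl2.lo t) * ρ (OddCyclic.T1Sl2.lo t) = 1 := by
    intro t
    rw [← map_mul, hlomul]
    have : t + t = 0 := by linear_combination t * hK2
    rw [this, hlozero, map_one]
  have hup1 : ∀ t : K, t ≠ 0 → ρ (OddCyclic.T1Sl2.up t) ≠ 1 := by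
    intro t ht h
    have h3 : OddCyclic.T1Sl2.up t = 1 := hρ (by rw [h, map_one])
    have h4 := congrArg (fun g : SpecialLinearGroup (Fin 2) K => g 0 1) h3
    simp at h4
    exact ht h4
  have hlo1 : ∀ t : K, t ≠ 0 → ρ (OddCyclic.T1Sl2.lo t) ≠ 1 := by
    intro t ht h
    have h3 : OddCyclic.T1Sl2.lo t = 1 := hρ (by rw [h, map_one])
    have h4 := congrArg (fun g : SpecialLinearGroup (Fin 2) K => g 1 0) h3
    simp at h4
    exact ht h4
  obtain ⟨r, hr0, hrr, hr, hr1⟩ := exists_centre hF h2 _ (hup1 1 one_ne_zero) (hupinv 1)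
  obtain ⟨s, hs0, hss, hs, hs1⟩ := exists_centre hF h2 _ (hlo1 1 one_ne_zero) (hloinv 1)
  -- all `up t` fix the vectors perpendicular to `r`
  have hupfix : ∀ (t : K) (x : Fin 3 → F), hermForm 3 F q x r = 0 →
      mat (ρ (OddCyclic.T1Sl2.up t)) *ᵥ x = x := by
    intro t x hx
    by_cases ht : t = 0
    · rw [ht, OddCyclic.T1Sl2.up_zero, map_one, mat_one, Matrix.one_mulVec]
    obtain ⟨r', hr0', hrr', hr', hr1'⟩ := exists_centre hF h2 _ (hup1 t ht) (hupinv t)
    obtain ⟨c, hc0, hc⟩ := centre_unique hF h2 hr0 hr0' hrr hrr' hr hr1 hr' (hupinv t) (by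
      rw [← map_mul, ← map_mul, OddCyclic.T1Sl2.up_mul, OddCyclic.T1Sl2.up_mul, add_comm])
    rw [hr', hc, herm_smul_right, hx, mul_zero]
  have hlofix : ∀ (t : K) (x : Fin 3 → F), hermForm 3 F q x s = 0 →
      mat (ρ (OddCyclic.T1Sl2.lo t)) *ᵥ x = x := by
    intro t x hx
    by_cases ht : t = 0
    · rw [ht, hlozero, map_one, mat_one, Matrix.one_mulVec]
    obtain ⟨r', hr0', hrr', hr', hr1'⟩ := exists_centre hF h2 _ (hlo1 t ht) (hloinv t)
    obtain ⟨c, hc0, hc⟩ := centre_unique hF h2 hs0 hr0' hss hrr' hs hs1 hr' (hloinv t) (by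
      rw [← map_mul, ← map_mul, hlomul, hlomul, add_comm])
    rw [hr', hc, herm_smul_right, hx, mul_zero]
  -- the centres are not perpendicular
  have hrs : hermForm 3 F q s r ≠ 0 := by
    intro h
    obtain ⟨c, hc⟩ := isotropic_proportional hF hr0 hrr hss h
    have hcomm : ρ (OddCyclic.T1Sl2.up 1) * ρ (OddCyclic.T1Sl2.lo 1) =
        ρ (OddCyclic.T1Sl2.lo 1) * ρ (OddCyclic.T1Sl2.up 1) := by
      apply mat_inj
      rw [mat_mul, mat_mul]
      apply Matrix.ext_of_mulVec_single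
      intro j
      rw [← Matrix.mulVec_mulVec, ← Matrix.mulVec_mulVec]
      obtain ⟨a, ha⟩ := hr1 (Pi.single j 1)
      obtain ⟨b, hb⟩ := hs1 (Pi.single j 1)
      have e1 : mat (ρ (OddCyclic.T1Sl2.up 1)) *ᵥ s = s := (hr s).2 h
      have e2 : mat (ρ (OddCyclic.T1Sl2.lo 1)) *ᵥ r = r := (hs r).2 (herm_eq_zero_swap hF h)
      rw [ha, hb, Matrix.mulVec_add, Matrix.mulVec_add, Matrix.mulVec_smul, Matrix.mulVec_smul,
        ha, hb, e1, e2]
      abel
    rw [← map_mul, ← map_mul] at hcomm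
    have h3 := congrArg (fun g : SpecialLinearGroup (Fin 2) K => g 0 0) (hρ hcomm)
    simp only [OddCyclic.T1Sl2.mul00] at h3
    simp at h3
  -- a vector perpendicular to both
  obtain ⟨w, hw0, hwr, hws⟩ : ∃ w : Fin 3 → F, w ≠ 0 ∧ hermForm 3 F q w r = 0 ∧
      hermForm 3 F q w s = 0 := by
    let f : (Fin 3 → F) →ₗ[F] (Fin 2 → F) :=
      { toFun := fun x => ![hermForm 3 F q x r, hermForm 3 F q x s]
        map_add' := fun x y => by
          funext i
          fin_cases i
          · exact herm_add_left _ _ _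
          · exact herm_add_left _ _ _
        map_smul' := fun c x => by
          funext i
          fin_cases i
          · exact herm_smul_left _ _ _
          · exact herm_smul_left _ _ _ }
    have hlt : Module.finrank F (Fin 2 → F) < Module.finrank F (Fin 3 → F) := by simp
    have hk := LinearMap.ker_ne_bot_of_finrank_lt (f := f) hlt
    obtain ⟨w, hw, hw0⟩ := Submodule.exists_mem_ne_zero_of_ne_bot hk
    have hw' : f w = 0 := hw
    exact ⟨w, hw0, congrFun hw' 0, congrFun hw' 1⟩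
  have hww : hermForm 3 F q w w ≠ 0 := by
    intro h
    obtain ⟨c, hc⟩ := isotropic_proportional hF hr0 hrr h hwr
    rw [hc, herm_smul_left] at hws
    rcases mul_eq_zero.1 hws with h3 | h3
    · rw [h3, zero_smul] at hc
      exact hw0 hc
    · exact hrs (herm_eq_zero_swap hF h3)
  obtain ⟨μ, hμ0, hμ⟩ := exists_norm_eq_ne hF (herm_self_pow hF w) hww
  have hμq : μ ^ q ≠ 0 := pow_ne_zero _ hμ0
  refine ⟨⟨μ⁻¹ • w, ?_⟩, ?_⟩
  · rw [herm_smul_left, herm_smul_right, ← hμ, inv_pow]
    field_simp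
  · -- the stabiliser is everything
    have htop : Subgroup.comap ρ (MulAction.stabilizer (SU 3 F q)
        (⟨μ⁻¹ • w, by
          rw [herm_smul_left, herm_smul_right, ← hμ, inv_pow]
          field_simp⟩ : Pt 3 F q)) = ⊤ := by
      apply OddCyclic.T1Sl2.closure_top
      · intro t
        rw [Subgroup.mem_comap, MulAction.mem_stabilizer_iff]
        apply Pt.ext'
        rw [smul_val]
        exact hupfix t _ (by rw [herm_smul_left, hwr, mul_zero])
      · intro t
        rw [Subgroup.mem_comap, MulAction.mem_stabilizer_iff]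
        apply Pt.ext'
        rw [smul_val]
        exact hlofix t _ (by rw [herm_smul_left, hws, mul_zero])
    intro x
    have hx : x ∈ (⊤ : Subgroup (SpecialLinearGroup (Fin 2) K)) := Subgroup.mem_top x
    rw [← htop, Subgroup.mem_comap, MulAction.mem_stabilizer_iff] at hx
    exact hx

end Cfsg.Agent.H433
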