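import Cfsg.Agent.H433.SubOdd

/-!
# Two `SU 2` of `SU 3` with commuting tori form a standard pair
-/

set_option autoImplicit false

namespace Cfsg.Agent.H433

open Matrix Cfsg
open Cfsg.Agent.LieClassical.HermBasic
open Cfsg.Agent.Phan

variable {F : Type*} [Field F] {q : ℕ} [Fintype F]

/-- an element of `SU 2` of order dividing `q + 1` without fixed vectors -/
theorem su2_no_fixed (hF : Fintype.card F = q ^ 2) (x : SU 2 F q) (hx : x ^ (q + 1) = 1)
    (hx1 : x ≠ 1) (v : Fin 2 → F) (hv : mat x *ᵥ v = v) : v = 0 := by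
  by_contra hv0
  apply hx1
  -- `det (x - 1) = 0`
  have h1 : (mat x - 1).det = 0 := by
    rw [← Matrix.exists_mulVec_eq_zero_iff]
    exact ⟨v, hv0, by rw [Matrix.sub_mulVec, Matrix.one_mulVec, hv, sub_self]⟩
  have hdet := mat_det x
  rw [Matrix.det_fin_two] at h1 hdet
  simp only [Matrix.sub_apply, Matrix.one_apply_eq] at h1
  rw [Matrix.one_apply_ne (by decide), Matrix.one_apply_ne (by decide)] at h1
  have htr : mat x 0 0 + mat x 1 1 = 2 := by linear_combination hdet - h1
  -- `(x - 1)² = 0`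
  set N := mat x - 1 with hN
  have n00 : N 0 0 = mat x 0 0 - 1 := by rw [hN]; simp
  have n01 : N 0 1 = mat x 0 1 := by rw [hN]; simp
  have n10 : N 1 0 = mat x 1 0 := by rw [hN]; simp
  have n11 : N 1 1 = mat x 1 1 - 1 := by rw [hN]; simp
  have hNN : N * N = 0 := by
    have e : ∀ i j, (N * N) i j = N i 0 * N 0 j + N i 1 * N 1 j := by
      intro i j; rw [Matrix.mul_apply, Fin.sum_univ_two]
    have e00 : (N * N) 0 0 = 0 := by
      rw [e, n00, n01, n10]
      linear_combination (mat x 0 0) * htr - hdet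
    have e01 : (N * N) 0 1 = 0 := by
      rw [e, n00, n01, n11]
      linear_combination (mat x 0 1) * htr
    have e10 : (N * N) 1 0 = 0 := by
      rw [e, n00, n11, n10]
      linear_combination (mat x 1 0) * htr
    have e11 : (N * N) 1 1 = 0 := by
      rw [e, n11, n01, n10]
      linear_combination (mat x 1 1) * htr - hdet
    ext i j
    rw [Matrix.zero_apply]
    fin_cases i <;> fin_cases j
    · exact e00
    · exact e01
    · exact e10
    · exact e11
  have hx' : mat x = 1 + N := by rw [hN]; abel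
  have hpow : ∀ k : ℕ, mat (x ^ k) = 1 + (k : F) • N := by
    intro k
    induction k with
    | zero => rw [pow_zero, mat_one]; simp
    | succ k ih =>
      rw [pow_succ, mat_mul, ih, hx', Matrix.add_mul, Matrix.mul_add, Matrix.mul_add,
        Matrix.one_mul, Matrix.one_mul, Matrix.mul_one, Matrix.smul_mul, hNN, smul_zero, add_zero]
      push_cast
      rw [add_smul, one_smul]
      abel
  have h3 := hpow (q + 1)
  rw [hx, mat_one] at h3
  have hq0 : ((q : ℕ) : F) = 0 := by
    have : ((Fintype.card F : ℕ) : F) = 0 := FiniteField.cast_card_eq_zero F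
    rw [hF] at this
    push_cast at this
    exact pow_eq_zero_iff (two_ne_zero) |>.1 this
  push_cast at h3
  rw [hq0, zero_add, one_smul] at h3
  apply mat_inj
  rw [mat_one, hx', ← h3]

/-- an element of `SU 3` of order dividing `q + 1` fixing a unit vector has no other fixed vectors -/
theorem su3_fixed (hF : Fintype.card F = q ^ 2) (x : SU 3 F q) (hx : x ^ (q + 1) = 1)
    (hx1 : x ≠ 1) (w : Pt 3 F q) (hw : x • w = w) (v : Fin 3 → F) (hv : mat x *ᵥ v = v) :
    ∃ c : F, v = c • w.val := by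
  obtain ⟨g, hg⟩ := exists_su_smul hF (e0 2 F q) w
  obtain ⟨k, hk⟩ := exists_emb_of_fix hF (g⁻¹ * x * g) (by
    rw [mul_smul, mul_smul, hg, hw, ← hg, inv_smul_smul])
  have hkk : k ^ (q + 1) = 1 := by
    apply emb_injective hF 1 (by omega : 1 + 2 ≤ 2 + 1)
    rw [map_pow, hk, map_one]
    have : g⁻¹ * x * g = g⁻¹ * x * (g⁻¹)⁻¹ := by rw [inv_inv]
    rw [this, conj_pow, hx]
    group
  have hk1 : k ≠ 1 := by
    rintro rfl
    rw [map_one] at hk
    apply hx1
    calc x = g * (g⁻¹ * x * g) * g⁻¹ := by group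
      _ = 1 := by rw [← hk]; group
  set v' := mat g⁻¹ *ᵥ v with hv'
  have hgv : mat g *ᵥ v' = v := by
    rw [hv', Matrix.mulVec_mulVec, mat_mul_inv, Matrix.one_mulVec]
  have h3 : mat (g⁻¹ * x * g) *ᵥ v' = v' := by
    rw [mat_mul, mat_mul, ← Matrix.mulVec_mulVec, ← Matrix.mulVec_mulVec, hgv, hv, hv']
  rw [← hk, emb_one_mulVec] at h3
  have h4 : mat k *ᵥ (fun j : Fin 2 => v' j.succ) = fun j => v' j.succ := by
    funext j
    have h5 := congrFun h3 j.succ
    rwa [Fin.cons_succ] at h5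
  have h5 := su2_no_fixed hF k hkk hk1 _ h4
  refine ⟨v' 0, ?_⟩
  have h6 : v' = v' 0 • (e0 2 F q).val := by
    funext i
    refine Fin.cases ?_ (fun i => ?_) i
    · rw [Pi.smul_apply, e0_val, Pi.single_eq_same, smul_eq_mul, mul_one]
    · rw [Pi.smul_apply, e0_val, Pi.single_eq_of_ne (Fin.succ_ne_zero i), smul_zero]
      exact congrFun h5 i
  rw [← hgv, ← hg, smul_val, ← Matrix.mulVec_smul, ← h6]

/-- the stabiliser of the last basis vector -/
theorem range_emb_zero (hF : Fintype.card F = q ^ 2) :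
    (emb hF 0 (by omega : 0 + 2 ≤ 3) : SU 2 F q →* SU 3 F q).range =
      MulAction.stabilizer (SU 3 F q) (pe 3 F q 2) :=
  range_eq_stabilizer hF _ (emb_injective hF _ _) _
    (fun x => emb_smul_pe hF 0 _ x (Or.inr (by decide)))

theorem range_emb_one (hF : Fintype.card F = q ^ 2) :
    (emb hF 1 (by omega : 1 + 2 ≤ 3) : SU 2 F q →* SU 3 F q).range =
      MulAction.stabilizer (SU 3 F q) (e0 2 F q) :=
  range_eq_stabilizer hF _ (emb_injective hF _ _) _ (fun x => emb_one_e0 hF x)

/-- moving two perpendicular unit vectors to the basis -/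
theorem exists_frame_two (hF : Fintype.card F = q ^ 2) (w w' : Pt 3 F q)
    (h : hermForm 3 F q w.val w'.val = 0) :
    ∃ g : SU 3 F q, g • e0 2 F q = w ∧ g • pe 3 F q 2 = w' := by
  obtain ⟨g, hg⟩ := exists_su_smul hF (e0 2 F q) w
  set v := g⁻¹ • w' with hv
  have hgv : g • v = w' := by rw [hv, smul_inv_smul]
  have hv0 : v.val 0 = 0 := by
    have h1 : hermForm 3 F q (e0 2 F q).val v.val = 0 := by
      rw [← mat_isom g, ← smul_val, ← smul_val, hg, hgv, h]
    rw [herm_e0_left] at h1
    exact (pow_q_eq_zero hF).1 h1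
  have hvn := norm_eq_head hF v
  rw [hv0, zero_mul, zero_add] at hvn
  obtain ⟨k, hk⟩ := exists_su_map hF (n := 0) (u := Pi.single 1 1)
    (v := fun j : Fin 2 => v.val j.succ) (by
      rw [herm_single_left, Pi.single_eq_same, one_pow, mul_one]; exact hvn.symm) (by
      rw [herm_single_left, Pi.single_eq_same, one_pow, mul_one]; exact one_ne_zero)
  refine ⟨g * emb hF 1 (by omega : 1 + 2 ≤ 2 + 1) k, ?_, ?_⟩
  · rw [mul_smul, emb_one_e0, hg]
  · rw [mul_smul, ← hgv]
    congr 1
    apply Pt.ext'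
    rw [smul_val, emb_one_mulVec]
    have h1 : (fun j : Fin 2 => (pe 3 F q 2).val j.succ) = Pi.single 1 1 := by
      funext j
      change (Pi.single (2 : Fin 3) (1 : F) : Fin 3 → F) j.succ = _
      fin_cases j
      · simp
      · simp only [Fin.mk_one, Pi.single_eq_same]
        exact Pi.single_eq_same (M := fun _ => F) (2 : Fin 3) 1
    have h2 : (pe 3 F q 2).val 0 = 0 := by
      change (Pi.single (2 : Fin 3) (1 : F) : Fin 3 → F) 0 = 0
      exact Pi.single_eq_of_ne (by decide) 1
    rw [h1, hk, h2]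
    funext i
    refine Fin.cases ?_ (fun i => ?_) i
    · rw [Fin.cons_zero, hv0]
    · rw [Fin.cons_succ]

/-- **Two `SU 2` with commuting tori.** -/
theorem exists_psi (hF : Fintype.card F = q ^ 2) (hq : 4 ≤ q) {G : Type*} [Group G]
    {A B : Subgroup G} (eA : SU 2 F q ≃* A) (eB : SU 2 F q ≃* B)
    (ε : ↥(A ⊔ B) ≃* SU 3 F q) {a b : G} (ha : a ∈ A) (hb : b ∈ B) (haq : a ^ (q + 1) = 1)
    (hbq : b ^ (q + 1) = 1) (ha1 : a ≠ 1) (hb1 : b ≠ 1) (hab : a * b = b * a) :
    ∃ ψ : SU 3 F q →* G, Function.Injective ψ ∧ ψ.range = A ⊔ B ∧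
      (ψ.comp (emb hF 0 (by omega : 0 + 2 ≤ 3))).range = A ∧
      (ψ.comp (emb hF 1 (by omega : 1 + 2 ≤ 3))).range = B := by
  -- the two subgroups of `SU 3`
  set ρA : SU 2 F q →* SU 3 F q := (ε.toMonoidHom.comp (Subgroup.inclusion le_sup_left)).comp
    eA.toMonoidHom with hρA
  set ρB : SU 2 F q →* SU 3 F q := (ε.toMonoidHom.comp (Subgroup.inclusion le_sup_right)).comp
    eB.toMonoidHom with hρB
  have hAi : Function.Injective ρA :=
    (ε.injective.comp (Subgroup.inclusion_injective le_sup_left)).comp eA.injective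
  have hBi : Function.Injective ρB :=
    (ε.injective.comp (Subgroup.inclusion_injective le_sup_right)).comp eB.injective
  obtain ⟨wA, hwA⟩ := exists_fixed hF hq ρA hAi
  obtain ⟨wB, hwB⟩ := exists_fixed hF hq ρB hBi
  have hrA := range_eq_stabilizer hF ρA hAi wA hwA
  have hrB := range_eq_stabilizer hF ρB hBi wB hwB
  have haS : a ∈ A ⊔ B := Subgroup.mem_sup_left ha
  have hbS : b ∈ A ⊔ B := Subgroup.mem_sup_right hb
  -- membership
  have hmemA : ∀ x : ↥(A ⊔ B), ε x ∈ MulAction.stabilizer (SU 3 F q) wA ↔ (x : G) ∈ A := by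
    intro x
    rw [← hrA]
    constructor
    · rintro ⟨y, hy⟩
      have h1 : ε (Subgroup.inclusion le_sup_left (eA y)) = ε x := hy
      have h2 := ε.injective h1
      rw [← h2]
      exact (eA y).2
    · intro hx
      refine ⟨eA.symm ⟨x, hx⟩, ?_⟩
      change ε (Subgroup.inclusion le_sup_left (eA (eA.symm ⟨x, hx⟩))) = ε x
      rw [MulEquiv.apply_symm_apply]
      rfl
  have hmemB : ∀ x : ↥(A ⊔ B), ε x ∈ MulAction.stabilizer (SU 3 F q) wB ↔ (x : G) ∈ B := by
    intro x
    rw [← hrB]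
    constructor
    · rintro ⟨y, hy⟩
      have h1 : ε (Subgroup.inclusion le_sup_right (eB y)) = ε x := hy
      have h2 := ε.injective h1
      rw [← h2]
      exact (eB y).2
    · intro hx
      refine ⟨eB.symm ⟨x, hx⟩, ?_⟩
      change ε (Subgroup.inclusion le_sup_right (eB (eB.symm ⟨x, hx⟩))) = ε x
      rw [MulEquiv.apply_symm_apply]
      rfl
  set a' : SU 3 F q := ε ⟨a, haS⟩ with ha'
  set b' : SU 3 F q := ε ⟨b, hbS⟩ with hb'
  have haw : a' • wA = wA := MulAction.mem_stabilizer_iff.1 ((hmemA ⟨a, haS⟩).2 ha)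
  have hbw : b' • wB = wB := MulAction.mem_stabilizer_iff.1 ((hmemB ⟨b, hbS⟩).2 hb)
  have haq' : a' ^ (q + 1) = 1 := by
    rw [ha', ← map_pow]
    have : (⟨a, haS⟩ : ↥(A ⊔ B)) ^ (q + 1) = 1 := Subtype.ext haq
    rw [this, map_one]
  have hbq' : b' ^ (q + 1) = 1 := by
    rw [hb', ← map_pow]
    have : (⟨b, hbS⟩ : ↥(A ⊔ B)) ^ (q + 1) = 1 := Subtype.ext hbq
    rw [this, map_one]
  have ha1' : a' ≠ 1 := by
    intro h
    apply ha1
    have : (⟨a, haS⟩ : ↥(A ⊔ B)) = 1 := ε.injective (by rw [← ha', h, map_one])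
    exact congrArg Subtype.val this
  have hb1' : b' ≠ 1 := by
    intro h
    apply hb1
    have : (⟨b, hbS⟩ : ↥(A ⊔ B)) = 1 := ε.injective (by rw [← hb', h, map_one])
    exact congrArg Subtype.val this
  have hab' : a' * b' = b' * a' := by
    rw [ha', hb', ← map_mul, ← map_mul]
    congr 1
    exact Subtype.ext hab
  have haw' : mat a' *ᵥ wA.val = wA.val := congrArg Pt.val haw
  have hbw' : mat b' *ᵥ wB.val = wB.val := congrArg Pt.val hbw
  -- `b'` preserves the line of `wA`
  obtain ⟨lam, hlam⟩ := su3_fixed hF a' haq' ha1' wA haw (mat b' *ᵥ wA.val) (by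
    rw [Matrix.mulVec_mulVec, ← mat_mul, hab', mat_mul, ← Matrix.mulVec_mulVec, haw'])
  have hperp : hermForm 3 F q wB.val wA.val = 0 := by
    by_cases hl : lam = 1
    · exfalso
      rw [hl, one_smul] at hlam
      obtain ⟨c, hc⟩ := su3_fixed hF b' hbq' hb1' wB hbw _ hlam
      -- the stabilisers are equal
      have hc0 : c ≠ 0 := by
        rintro rfl
        have h1 := wA.norm
        rw [hc, zero_smul, herm_zero_left] at h1
        exact zero_ne_one h1
      have hst : ∀ x : SU 3 F q, x • wA = wA ↔ x • wB = wB := by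
        intro x
        constructor
        · intro hx
          have h1 : mat x *ᵥ wA.val = wA.val := congrArg Pt.val hx
          rw [hc, Matrix.mulVec_smul] at h1
          apply Pt.ext'
          rw [smul_val]
          exact smul_right_injective _ hc0 h1
        · intro hx
          have h1 : mat x *ᵥ wB.val = wB.val := congrArg Pt.val hx
          apply Pt.ext'
          rw [smul_val, hc, Matrix.mulVec_smul, h1]
      have hAB : A = B := by
        apply le_antisymm
        · intro x hx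
          have hxS : x ∈ A ⊔ B := Subgroup.mem_sup_left hx
          rw [← hmemB ⟨x, hxS⟩, MulAction.mem_stabilizer_iff, ← hst,
            ← MulAction.mem_stabilizer_iff, hmemA]
          exact hx
        · intro x hx
          have hxS : x ∈ A ⊔ B := Subgroup.mem_sup_right hx
          rw [← hmemA ⟨x, hxS⟩, MulAction.mem_stabilizer_iff, hst,
            ← MulAction.mem_stabilizer_iff, hmemB]
          exact hx
      -- then every element of `SU 3` fixes `wA`
      have hall : ∀ y : SU 3 F q, y • wA = wA := by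
        intro y
        rw [← MulAction.mem_stabilizer_iff, ← ε.apply_symm_apply y, hmemA]
        have h1 : A ⊔ B ≤ A := by rw [← hAB, sup_idem]
        exact h1 (ε.symm y).2
      obtain ⟨g, hg⟩ := exists_su_smul hF (n := 1) wA (e0 2 F q)
      obtain ⟨g', hg'⟩ := exists_su_smul hF (n := 1) wA (pe 3 F q 2)
      rw [hall] at hg hg'
      rw [hg] at hg'
      have h1 := congrFun (congrArg Pt.val hg') 0
      have h2 : (pe 3 F q 2).val 0 = 0 := by
        change (Pi.single (2 : Fin 3) (1 : F) : Fin 3 → F) 0 = 0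
        exact Pi.single_eq_of_ne (by decide) 1
      rw [h2, e0_val, Pi.single_eq_same] at h1
      exact one_ne_zero h1
    · have h1 := mat_isom b' wA.val wB.val
      rw [hlam, hbw', herm_smul_left] at h1
      apply herm_eq_zero_swap hF
      have h2 : (lam - 1) * hermForm 3 F q wA.val wB.val = 0 := by linear_combination h1
      exact (mul_eq_zero.1 h2).resolve_left (sub_ne_zero.2 hl)
  obtain ⟨g, hgB, hgA⟩ := exists_frame_two hF wB wA hperp
  set ψ : SU 3 F q →* G := ((A ⊔ B).subtype.comp ε.symm.toMonoidHom).comp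
    (MulAut.conj g).toMonoidHom with hψ
  have hψa : ∀ x, ψ x = ((ε.symm (g * x * g⁻¹) : ↥(A ⊔ B)) : G) := fun x => rfl
  have hsymm : ∀ x : SU 3 F q, ε (ε.symm x) = x := ε.apply_symm_apply
  refine ⟨ψ, ?_, ?_, ?_, ?_⟩
  · intro x y hxy
    rw [hψa, hψa] at hxy
    have h1 := ε.symm.injective (Subtype.ext hxy)
    exact mul_left_cancel (mul_right_cancel h1)
  · ext x
    constructor
    · rintro ⟨y, rfl⟩
      exact (ε.symm (g * y * g⁻¹)).2
    · intro hx
      refine ⟨g⁻¹ * ε ⟨x, hx⟩ * g, ?_⟩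
      rw [hψa]
      have : g * (g⁻¹ * ε ⟨x, hx⟩ * g) * g⁻¹ = ε ⟨x, hx⟩ := by group
      rw [this, MulEquiv.symm_apply_apply]
  · rw [MonoidHom.range_comp, range_emb_zero hF]
    ext x
    constructor
    · rintro ⟨y, hy, rfl⟩
      rw [hψa, ← hmemA, hsymm, MulAction.mem_stabilizer_iff, ← hgA, mul_smul, mul_smul,
        inv_smul_smul]
      congr 1
    · intro hx
      have hxS : x ∈ A ⊔ B := Subgroup.mem_sup_left hx
      refine ⟨g⁻¹ * ε ⟨x, hxS⟩ * g, ?_, ?_⟩
      · have h1 := (hmemA ⟨x, hxS⟩).2 hx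
        rw [MulAction.mem_stabilizer_iff] at h1
        change _ ∈ MulAction.stabilizer (SU 3 F q) (pe 3 F q 2)
        rw [MulAction.mem_stabilizer_iff, mul_smul, mul_smul, hgA, h1, ← hgA, inv_smul_smul]
      · rw [hψa]
        have : g * (g⁻¹ * ε ⟨x, hxS⟩ * g) * g⁻¹ = ε ⟨x, hxS⟩ := by group
        rw [this, MulEquiv.symm_apply_apply]
  · rw [MonoidHom.range_comp, range_emb_one hF]
    ext x
    constructor
    · rintro ⟨y, hy, rfl⟩
      rw [hψa, ← hmemB, hsymm, MulAction.mem_stabilizer_iff, ← hgB, mul_smul, mul_smul,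
        inv_smul_smul]
      congr 1
    · intro hx
      have hxS : x ∈ A ⊔ B := Subgroup.mem_sup_right hx
      refine ⟨g⁻¹ * ε ⟨x, hxS⟩ * g, ?_, ?_⟩
      · have h1 := (hmemB ⟨x, hxS⟩).2 hx
        rw [MulAction.mem_stabilizer_iff] at h1
        change _ ∈ MulAction.stabilizer (SU 3 F q) (e0 2 F q)
        rw [MulAction.mem_stabilizer_iff, mul_smul, mul_smul, hgB, h1, ← hgB, inv_smul_smul]
      · rw [hψa]
        have : g * (g⁻¹ * ε ⟨x, hxS⟩ * g) * g⁻¹ = ε ⟨x, hxS⟩ := by group
        rw [this, MulEquiv.symm_apply_apply]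

end Cfsg.Agent.H433
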